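import Mathlib.RingTheory.MvPolynomial.EulerIdentity
import Mathlib.Algebra.MvPolynomial.Funext
import Mathlib.Algebra.CharZero.Infinite
import Mathlib.LinearAlgebra.FiniteDimensional.Basic
import Mathlib.Tactic.Ring
import Mathlib.Tactic.LinearCombination
import Mathlib.Tactic.FieldSimp

/-!
# Cubic forms as symmetric trilinear forms
-/

namespace GrothLib.CubicForm

universe u v

open MvPolynomial

/-- A symmetric trilinear form. -/
structure Tri (k : Type u) (V : Type v) [Field k] [AddCommGroup V] [Module k V] where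
  toFun : V → V → V → k
  add_left : ∀ a a' b c, toFun (a + a') b c = toFun a b c + toFun a' b c
  smul_left : ∀ (r : k) a b c, toFun (r • a) b c = r * toFun a b c
  symm₁ : ∀ a b c, toFun a b c = toFun b a c
  symm₂ : ∀ a b c, toFun a b c = toFun a c b

namespace Tri

variable {k : Type u} {V : Type v} [Field k] [AddCommGroup V] [Module k V]

instance : CoeFun (Tri k V) (fun _ => V → V → V → k) := ⟨Tri.toFun⟩

variable (T : Tri k V)

theorem symm₁₃ (a b c : V) : T a b c = T c b a := by
  rw [T.symm₁, T.symm₂, T.symm₁]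

theorem rot (a b c : V) : T a b c = T b c a := by
  rw [T.symm₁, T.symm₂]

@[simp] theorem add₁ (a a' b c : V) : T (a + a') b c = T a b c + T a' b c := T.add_left ..
@[simp] theorem smul₁ (r : k) (a b c : V) : T (r • a) b c = r * T a b c := T.smul_left ..
@[simp] theorem add₂ (a b b' c : V) : T a (b + b') c = T a b c + T a b' c := by
  rw [T.symm₁, T.add₁, T.symm₁ b, T.symm₁ b']
@[simp] theorem smul₂ (r : k) (a b c : V) : T a (r • b) c = r * T a b c := by
  rw [T.symm₁, T.smul₁, T.symm₁ b]
@[simp] theorem add₃ (a b c c' : V) : T a b (c + c') = T a b c + T a b c' := by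
  rw [T.symm₂, T.add₂, T.symm₂ a c, T.symm₂ a c']
@[simp] theorem smul₃ (r : k) (a b c : V) : T a b (r • c) = r * T a b c := by
  rw [T.symm₂, T.smul₂, T.symm₂ a c]
@[simp] theorem zero₁ (b c : V) : T 0 b c = 0 := by
  have := T.smul₁ 0 0 b c; rwa [zero_smul, zero_mul] at this
@[simp] theorem zero₂ (a c : V) : T a 0 c = 0 := by rw [T.symm₁, T.zero₁]
@[simp] theorem zero₃ (a b : V) : T a b 0 = 0 := by rw [T.symm₂, T.zero₂]
@[simp] theorem neg₁ (a b c : V) : T (-a) b c = -T a b c := by
  rw [← neg_one_smul k a, T.smul₁, neg_one_mul]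
@[simp] theorem neg₂ (a b c : V) : T a (-b) c = -T a b c := by
  rw [← neg_one_smul k b, T.smul₂, neg_one_mul]
@[simp] theorem neg₃ (a b c : V) : T a b (-c) = -T a b c := by
  rw [← neg_one_smul k c, T.smul₃, neg_one_mul]
@[simp] theorem sub₁ (a a' b c : V) : T (a - a') b c = T a b c - T a' b c := by
  rw [sub_eq_add_neg, T.add₁, T.neg₁, sub_eq_add_neg]
@[simp] theorem sub₂ (a b b' c : V) : T a (b - b') c = T a b c - T a b' c := by
  rw [sub_eq_add_neg, T.add₂, T.neg₂, sub_eq_add_neg]
@[simp] theorem sub₃ (a b c c' : V) : T a b (c - c') = T a b c - T a b c' := by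
  rw [sub_eq_add_neg, T.add₃, T.neg₃, sub_eq_add_neg]

/-- The linear form `T a b _`. -/
def lin (a b : V) : V →ₗ[k] k where
  toFun := T a b
  map_add' := T.add₃ a b
  map_smul' := fun r c => T.smul₃ r a b c

@[simp] theorem lin_apply (a b c : V) : T.lin a b c = T a b c := rfl

/-- The cubic form. -/
def cube (a : V) : k := T a a a

theorem cube_add_smul (a b : V) (t : k) :
    T.cube (a + t • b) = T.cube a + 3 * t * T a a b + 3 * t ^ 2 * T a b b + t ^ 3 * T.cube b := by
  simp [cube, T.symm₁ b a a, T.symm₁ b a b, T.symm₂ a b a, T.symm₂ b b a]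
  ring

theorem cube_smul (t : k) (a : V) : T.cube (t • a) = t ^ 3 * T.cube a := by
  simp [cube]; ring

/-- The grad of the cubic form at a point on the line through `a` and `b`. -/
theorem grad_add_smul (a b c : V) (t : k) :
    T (a + t • b) (a + t • b) c = T a a c + 2 * t * T a b c + t ^ 2 * T b b c := by
  simp [T.symm₁ b a c]
  ring

theorem grad_comb (a b c : V) (s t : k) :
    T (s • a + t • b) (s • a + t • b) c =
      s ^ 2 * T a a c + 2 * (s * t) * T a b c + t ^ 2 * T b b c := by
  simp [T.symm₁ b a c]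
  ring

theorem cube_comb (a b : V) (s t : k) :
    T.cube (s • a + t • b) = s ^ 3 * T.cube a + 3 * (s ^ 2 * t) * T a a b
      + 3 * (s * t ^ 2) * T a b b + t ^ 3 * T.cube b := by
  simp [cube, T.symm₁ b a a, T.symm₁ b a b, T.symm₂ a b a, T.symm₂ b b a]
  ring

/-- Smoothness of the cubic form. -/
def Smooth : Prop := ∀ a : V, (∀ c, T a a c = 0) → a = 0

variable [CharZero k]

/-- Polarisation: a cubic form vanishing on a subspace has vanishing trilinear form there. -/
theorem eq_zero_of_cube_eq_zero (U : Submodule k V) (h : ∀ u ∈ U, T.cube u = 0)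
    {a b c : V} (ha : a ∈ U) (hb : b ∈ U) (hc : c ∈ U) : T a b c = 0 := by
  have aab : ∀ x ∈ U, ∀ y ∈ U, T x x y = 0 := by
    intro x hx y hy
    have h1 := h _ (U.add_mem hx (U.smul_mem (1 : k) hy))
    have h2 := h _ (U.add_mem hx (U.smul_mem (-1 : k) hy))
    rw [T.cube_add_smul, h x hx, h y hy] at h1 h2
    have : 6 * T x x y = 0 := by linear_combination h1 - h2
    simpa using this
  have h1 := aab _ (U.add_mem ha hb) c hc
  simp [T.symm₁ b a c, aab a ha c hc, aab b hb c hc] at h1
  exact h1

omit [CharZero k] in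
theorem cube_eq_zero_on_span_pair {a b : V} (ha : T.cube a = 0) (hab : T a a b = 0)
    (hba : T a b b = 0) (hb : T.cube b = 0) : ∀ u ∈ Submodule.span k {a, b}, T.cube u = 0 := by
  intro u hu
  obtain ⟨s, t, rfl⟩ := Submodule.mem_span_pair.1 hu
  rw [T.cube_comb, ha, hab, hba, hb]; ring

end Tri

section OfPoly

variable {k : Type u} [Field k] {σ : Type v} [Fintype σ]

omit [Fintype σ] in
theorem pderiv_comm (i j : σ) (f : MvPolynomial σ k) :
    pderiv i (pderiv j f) = pderiv j (pderiv i f) := by
  classical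
  induction f using MvPolynomial.induction_on with
  | C a => simp
  | add p q hp hq => simp [hp, hq]
  | mul_X p l hp =>
    simp only [pderiv_mul, map_add, pderiv_X, Pi.single_apply]
    split_ifs <;> simp [hp]
    ring

/-- The third derivative of a polynomial, as a symmetric trilinear form. -/
noncomputable def ofPoly (f : MvPolynomial σ k) : Tri k (σ → k) where
  toFun a b c := ∑ i, ∑ j, ∑ l, a i * b j * c l * eval 0 (pderiv i (pderiv j (pderiv l f)))
  add_left a a' b c := by
    simp only [← Finset.sum_add_distrib, Pi.add_apply, add_mul]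
  smul_left r a b c := by
    simp only [Finset.mul_sum, Pi.smul_apply, smul_eq_mul, mul_assoc]
  symm₁ a b c := by
    rw [Finset.sum_comm]
    refine Finset.sum_congr rfl fun i _ => Finset.sum_congr rfl fun j _ =>
      Finset.sum_congr rfl fun l _ => ?_
    rw [pderiv_comm j i, mul_comm (a j) (b i)]
  symm₂ a b c := by
    refine Finset.sum_congr rfl fun i _ => ?_
    rw [Finset.sum_comm]
    refine Finset.sum_congr rfl fun j _ => Finset.sum_congr rfl fun l _ => ?_
    rw [pderiv_comm l j, mul_right_comm (a i) (b l)]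

variable {f : MvPolynomial σ k}

theorem eval_euler {n : ℕ} (h : f.IsHomogeneous n) (v : σ → k) :
    ∑ i, v i * eval v (pderiv i f) = n * eval v f := by
  simpa [map_sum] using congrArg (eval v) h.sum_X_mul_pderiv

omit [Fintype σ] in
theorem eval_eq_eval_zero_of_isHomogeneous_zero {g : MvPolynomial σ k} (h : g.IsHomogeneous 0)
    (v : σ → k) : eval v g = eval 0 g := by
  rw [← totalDegree_zero_iff_isHomogeneous, totalDegree_eq_zero_iff_eq_C] at h
  rw [h]; simp

theorem ofPoly_grad (hf : f.IsHomogeneous 3) (v c : σ → k) :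
    ofPoly f v v c = 2 * ∑ l, c l * eval v (pderiv l f) := by
  have h2 : ∀ l, (pderiv l f).IsHomogeneous 2 := fun l => hf.pderiv
  have h1 : ∀ j l, (pderiv j (pderiv l f)).IsHomogeneous 1 := fun j l => (h2 l).pderiv
  have e1 : ∀ j l, ∑ i, v i * eval 0 (pderiv i (pderiv j (pderiv l f))) =
      eval v (pderiv j (pderiv l f)) := by
    intro j l
    have h := eval_euler (h1 j l) v
    simp only [Nat.cast_one, one_mul] at h
    rw [← h]
    exact Finset.sum_congr rfl fun i _ => by
      rw [eval_eq_eval_zero_of_isHomogeneous_zero ((h1 j l).pderiv) v]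
  have e2 : ∀ l, ∑ j, v j * eval v (pderiv j (pderiv l f)) = 2 * eval v (pderiv l f) :=
    fun l => by simpa using eval_euler (h2 l) v
  show ∑ i, ∑ j, ∑ l, v i * v j * c l * eval 0 (pderiv i (pderiv j (pderiv l f))) = _
  simp only [Finset.mul_sum]
  rw [Finset.sum_comm]
  calc ∑ j, ∑ i, ∑ l, v i * v j * c l * eval 0 (pderiv i (pderiv j (pderiv l f)))
      = ∑ j, ∑ l, c l * v j * eval v (pderiv j (pderiv l f)) := by
        refine Finset.sum_congr rfl fun j _ => ?_
        rw [Finset.sum_comm]
        refine Finset.sum_congr rfl fun l _ => ?_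
        rw [← e1, Finset.mul_sum]
        exact Finset.sum_congr rfl fun i _ => by ring
    _ = ∑ l, 2 * (c l * eval v (pderiv l f)) := by
        rw [Finset.sum_comm]
        refine Finset.sum_congr rfl fun l _ => ?_
        rw [mul_left_comm, ← e2, Finset.mul_sum]
        exact Finset.sum_congr rfl fun j _ => by ring

theorem ofPoly_cube (hf : f.IsHomogeneous 3) (v : σ → k) :
    (ofPoly f).cube v = 6 * eval v f := by
  rw [Tri.cube, ofPoly_grad hf, eval_euler hf]; push_cast; ring

variable [CharZero k]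

theorem ofPoly_cube_eq_zero_iff (hf : f.IsHomogeneous 3) (v : σ → k) :
    (ofPoly f).cube v = 0 ↔ eval v f = 0 := by
  simp [ofPoly_cube hf]

theorem ofPoly_grad_eq_zero_iff (hf : f.IsHomogeneous 3) (v : σ → k) :
    (∀ c, ofPoly f v v c = 0) ↔ ∀ i, eval v (pderiv i f) = 0 := by
  classical
  constructor
  · intro h i
    have := h (Pi.single i 1)
    rw [ofPoly_grad hf] at this
    simpa [Pi.single_apply] using this
  · intro h c; simp [ofPoly_grad hf, h]

theorem ofPoly_smooth (hf : f.IsHomogeneous 3)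
    (hsm : ∀ v : σ → k, v ≠ 0 → eval v f = 0 → ∃ i, eval v (pderiv i f) ≠ 0) :
    (ofPoly f).Smooth := by
  intro a ha
  by_contra h0
  obtain ⟨i, hi⟩ := hsm a h0 ((ofPoly_cube_eq_zero_iff hf a).1 (ha a))
  exact hi ((ofPoly_grad_eq_zero_iff hf a).1 ha i)

theorem ofPoly_line_iff (hf : f.IsHomogeneous 3) (U : Submodule k (σ → k)) :
    (∀ u ∈ U, (ofPoly f).cube u = 0) ↔ ∀ u ∈ U, eval u f = 0 := by
  simp only [ofPoly_cube_eq_zero_iff hf]

end OfPoly

section Subst

variable {k : Type u} [Field k] [CharZero k] {n : ℕ}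

omit [CharZero k] in
theorem eval_aeval_linSubst (A : Matrix (Fin n) (Fin n) k) (f : MvPolynomial (Fin n) k)
    (v : Fin n → k) :
    eval v (aeval (fun i : Fin n => ∑ j : Fin n, C (A i j) * X j) f) = eval (A.mulVec v) f := by
  induction f using MvPolynomial.induction_on with
  | C a => simp
  | add p q hp hq => simp [hp, hq]
  | mul_X p l hp => simp [hp, Matrix.mulVec, dotProduct]

theorem linSubst_eq_iff (A : Matrix (Fin n) (Fin n) k) (f : MvPolynomial (Fin n) k) (c : k) :
    aeval (fun i : Fin n => ∑ j : Fin n, C (A i j) * X j) f = C c * f ↔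
      ∀ v, eval (A.mulVec v) f = c * eval v f := by
  rw [MvPolynomial.funext_iff]
  refine forall_congr' fun v => ?_
  rw [eval_aeval_linSubst, eval_mul, eval_C]

theorem ofPoly_polar_of_subst {f : MvPolynomial (Fin n) k} (hf : f.IsHomogeneous 3)
    (A : Matrix (Fin n) (Fin n) k) (c : k) (h : ∀ v, eval (A.mulVec v) f = c * eval v f)
    (x y z : Fin n → k) :
    ofPoly f (A.mulVec x) (A.mulVec y) (A.mulVec z) = c * ofPoly f x y z := by
  let D : Tri k (Fin n → k) :=
    { toFun := fun x y z => ofPoly f (A.mulVec x) (A.mulVec y) (A.mulVec z) - c * ofPoly f x y z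
      add_left := fun a a' b d => by simp [Matrix.mulVec_add]; ring
      smul_left := fun r a b d => by simp [Matrix.mulVec_smul]; ring
      symm₁ := fun a b d => by rw [(ofPoly f).symm₁, (ofPoly f).symm₁ a]
      symm₂ := fun a b d => by rw [(ofPoly f).symm₂, (ofPoly f).symm₂ a] }
  have hD : ∀ u ∈ (⊤ : Submodule k (Fin n → k)), D.cube u = 0 := by
    intro u _
    show (ofPoly f).cube (A.mulVec u) - c * (ofPoly f).cube u = 0
    rw [ofPoly_cube hf, ofPoly_cube hf, h]; ring
  have := D.eq_zero_of_cube_eq_zero ⊤ hD (a := x) (b := y) (c := z) trivial trivial trivial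
  exact sub_eq_zero.1 this

end Subst

end GrothLib.CubicForm
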