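import Mathlib.RingTheory.Nullstellensatz
import Mathlib.RingTheory.Ideal.KrullsHeightTheorem
import Mathlib.RingTheory.Polynomial.Basic
import Mathlib.RingTheory.MvPolynomial.Homogeneous

/-!
# Fewer homogeneous forms than variables have a common nontrivial zero
-/

namespace GrothLib.CubicForm

universe u

open MvPolynomial

variable {k : Type u} [Field k] {n : ℕ}

/-- Substituting zero for the first `i` variables. -/
noncomputable def killFirst (i : ℕ) : MvPolynomial (Fin n) k →ₐ[k] MvPolynomial (Fin n) k :=
  aeval fun j => if (j : ℕ) < i then 0 else X j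

theorem killFirst_comp {i i' : ℕ} (h : i ≤ i') :
    (killFirst (k := k) (n := n) i').comp (killFirst i) = killFirst i' := by
  refine algHom_ext fun j => ?_
  by_cases hj : (j : ℕ) < i
  · simp [killFirst, hj, lt_of_lt_of_le hj h]
  · simp [killFirst, hj]

theorem le_height_ker_killFirst : ∀ i ≤ n,
    (i : ℕ∞) ≤ (RingHom.ker (killFirst (k := k) (n := n) i)).height
  | 0, _ => by simp
  | i + 1, h => by
    have hp : (RingHom.ker (killFirst (k := k) (n := n) i)).IsPrime := RingHom.ker_isPrime _
    have hp' : (RingHom.ker (killFirst (k := k) (n := n) (i + 1))).IsPrime := RingHom.ker_isPrime _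
    have hlt : RingHom.ker (killFirst (k := k) (n := n) i) < RingHom.ker (killFirst (i + 1)) := by
      refine lt_of_le_of_ne (fun x hx => ?_) fun e => ?_
      · rw [RingHom.mem_ker, ← killFirst_comp (Nat.le_succ i), AlgHom.comp_apply,
          RingHom.mem_ker.1 hx, map_zero]
      · have h1 : X ⟨i, h⟩ ∈ RingHom.ker (killFirst (k := k) (n := n) (i + 1)) := by
          simp [killFirst]
        rw [← e] at h1
        simp [killFirst, X_ne_zero] at h1
    calc ((i + 1 : ℕ) : ℕ∞) ≤ (RingHom.ker (killFirst (k := k) (n := n) i)).height + 1 := by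
          push_cast; gcongr; exact le_height_ker_killFirst i (Nat.le_of_succ_le h)
      _ ≤ _ := Ideal.height_add_one_le_of_lt_of_isPrime hlt

theorem exists_common_zero [IsAlgClosed k] {r : ℕ} (hr : r < n)
    (g : Fin r → MvPolynomial (Fin n) k) (d : Fin r → ℕ) (hd : ∀ i, 0 < d i)
    (hg : ∀ i, (g i).IsHomogeneous (d i)) :
    ∃ v : Fin n → k, v ≠ 0 ∧ ∀ i, eval v (g i) = 0 := by
  by_contra! h
  set I := Ideal.span (Set.range g)
  set m : Ideal (MvPolynomial (Fin n) k) := vanishingIdeal k ({0} : Set (Fin n → k))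
  have hm : m.IsMaximal := (isMaximal_iff_eq_vanishingIdeal_singleton (I := m)).2 ⟨0, rfl⟩
  have h0 : ∀ i, eval 0 (g i) = 0 := by
    intro i
    rw [eval_zero, constantCoeff_eq]
    exact (hg i).coeff_eq_zero (by simpa using (hd i).ne)
  have hIm : I ≤ m := by
    rw [Ideal.span_le]
    rintro _ ⟨i, rfl⟩
    simpa [m, mem_vanishingIdeal_singleton_iff] using h0 i
  have hz : zeroLocus k I = {0} := by
    ext v
    simp only [I, zeroLocus_span, Set.mem_setOf_eq, Set.mem_singleton_iff]
    constructor
    · intro hv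
      by_contra hv0
      obtain ⟨i, hi⟩ := h v hv0
      exact hi (by simpa using hv (g i) ⟨i, rfl⟩)
    · rintro rfl _ ⟨i, rfl⟩
      simpa using h0 i
  have hrad : m = I.radical := by rw [← vanishingIdeal_zeroLocus_eq_radical (K := k), hz]
  have hmin : m ∈ I.minimalPrimes := by
    refine ⟨⟨hm.isPrime, hIm⟩, fun p hp _ => ?_⟩
    rw [hrad]
    exact hp.1.radical_le_iff.2 hp.2
  have h1 := Ideal.height_le_card_of_mem_minimalPrimes_span (Set.finite_range g) hmin
  have h2 : (Set.range g).ncard ≤ r := by
    have := Finite.card_range_le g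
    simpa [← Nat.card_coe_set_eq] using this
  have h3 : RingHom.ker (killFirst (k := k) (n := n) n) ≤ m := by
    intro p hp
    rw [mem_vanishingIdeal_singleton_iff]
    have : (aeval (0 : Fin n → k) : _ →ₐ[k] k).comp (killFirst n) = aeval (0 : Fin n → k) := by
      refine algHom_ext fun j => ?_
      simp [killFirst]
    rw [← this, AlgHom.comp_apply, RingHom.mem_ker.1 hp, map_zero]
  have h4 := (le_height_ker_killFirst (k := k) n le_rfl).trans (Ideal.height_mono h3)
  have h5 : (n : ℕ∞) ≤ r := h4.trans (h1.trans (by exact_mod_cast h2))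
  exact absurd (by exact_mod_cast h5 : n ≤ r) (not_le.2 hr)

end GrothLib.CubicForm
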