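import Groth.Agent.Lib.CubicForm.Basic
import Mathlib.FieldTheory.IsAlgClosed.Basic
import Mathlib.LinearAlgebra.Dual.Lemmas

/-!
# Lines through a point of a smooth cubic surface, Eckardt points and their involutions
-/

namespace GrothLib.CubicForm

universe u v

open Module

variable {k : Type u} {V : Type v} [Field k] [AddCommGroup V] [Module k V]

theorem finrank_span_pair {a b : V} (ha : a ≠ 0) (hb : b ∉ Submodule.span k {a}) :
    finrank k ↥(Submodule.span k ({a, b} : Set V)) = 2 := by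
  have hli : LinearIndependent k ![a, b] := by
    rw [LinearIndependent.pair_iff' ha]
    intro c hc
    exact hb (Submodule.mem_span_singleton.2 ⟨c, hc⟩)
  have h := finrank_span_eq_card hli
  rwa [Matrix.range_cons_cons_empty, Fintype.card_fin] at h

theorem eq_span_pair {U : Submodule k V} (hU : finrank k ↥U = 2) {a b : V} (haU : a ∈ U)
    (hbU : b ∈ U) (ha : a ≠ 0) (hb : b ∉ Submodule.span k {a}) :
    U = Submodule.span k {a, b} := by
  have : FiniteDimensional k ↥U := FiniteDimensional.of_finrank_pos (by omega)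
  refine (Submodule.eq_of_le_of_finrank_le ?_ ?_).symm
  · exact Submodule.span_le.2 (by rintro x (rfl | rfl) <;> assumption)
  · rw [hU, finrank_span_pair ha hb]

theorem exists_mem_notMem_span_singleton {U : Submodule k V} (hU : 2 ≤ finrank k ↥U) (a : V) :
    ∃ b ∈ U, b ∉ Submodule.span k {a} := by
  by_contra! h
  have h1 : U ≤ Submodule.span k {a} := h
  have h2 : finrank k ↥(Submodule.span k ({a} : Set V)) ≤ 1 := by
    simpa using finrank_span_le_card (R := k) ({a} : Set V)
  have := Submodule.finrank_mono h1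
  omega

theorem mem_span_pair_shift {a b x : V} (r : k) :
    x ∈ Submodule.span k ({a, b} : Set V) → x ∈ Submodule.span k ({a, b + r • a} : Set V) := by
  intro h
  obtain ⟨s, t, rfl⟩ := Submodule.mem_span_pair.1 h
  exact Submodule.mem_span_pair.2 ⟨s - t * r, t, by module⟩

variable [IsAlgClosed k] [CharZero k]

omit [CharZero k] in
theorem exists_quadratic_zero (A B C : k) (hC : C ≠ 0) : ∃ t : k, A + 2 * t * B + t ^ 2 * C = 0 := by
  obtain ⟨r, hr⟩ := IsAlgClosed.exists_pow_nat_eq (B ^ 2 - A * C) (n := 2) (by norm_num)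
  exact ⟨(-B + r) / C, by field_simp; linear_combination hr⟩

namespace Tri

variable (T : Tri k V)

/-- A nonzero vector on three distinct lines of the cubic. -/
def IsEckardt (e : V) : Prop :=
  e ≠ 0 ∧ ∃ U : Fin 3 → Submodule k V, Function.Injective U ∧
    ∀ i, finrank k ↥(U i) = 2 ∧ e ∈ U i ∧ ∀ u ∈ U i, T.cube u = 0

/-- The functional whose kernel is the fixed hyperplane of the involution at an Eckardt point. -/
def Harmonic (e : V) (φ : V →ₗ[k] k) : Prop :=
  φ e = 1 ∧ T e e e = 0 ∧ ∀ x y, T e x y = φ x * T e e y + T e e x * φ y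

omit [IsAlgClosed k] [CharZero k] in
theorem exists_grad_eq_one (hsm : T.Smooth) {e : V} (he : e ≠ 0) : ∃ w, T e e w = 1 := by
  by_contra! h
  refine he (hsm e fun c => ?_)
  by_contra hc
  exact h ((T e e c)⁻¹ • c) (by simp [hc])

omit [CharZero k] in
/-- A smooth cubic contains no plane. -/
theorem no_plane [FiniteDimensional k V] (hV : finrank k V = 4) (hsm : T.Smooth)
    (H : Submodule k V) (hH : finrank k ↥H = 3) :
    ¬ ∀ x ∈ H, ∀ y ∈ H, ∀ z ∈ H, T x y z = 0 := by
  intro h
  obtain ⟨w, -, hw⟩ : ∃ w ∈ (⊤ : Submodule k V), w ∉ H := by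
    by_contra! h'
    have := Submodule.finrank_mono (show (⊤ : Submodule k V) ≤ H from h')
    rw [finrank_top] at this; omega
  have htop : H ⊔ Submodule.span k {w} = ⊤ := by
    apply Submodule.eq_top_of_finrank_eq
    have h1 : H < H ⊔ Submodule.span k {w} := lt_of_le_of_ne le_sup_left fun e =>
      hw (e ▸ Submodule.mem_sup_right (Submodule.mem_span_singleton_self w))
    have := Submodule.finrank_lt_finrank_of_lt h1
    have := Submodule.finrank_le (H ⊔ Submodule.span k {w})
    omega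
  have key : ∀ x ∈ H, T x x w = 0 → x = 0 := by
    intro x hx hxw
    refine hsm x fun c => ?_
    obtain ⟨a, ha, b, hb, rfl⟩ := Submodule.mem_sup.1 (htop ▸ Submodule.mem_top : c ∈ H ⊔ _)
    obtain ⟨r, rfl⟩ := Submodule.mem_span_singleton.1 hb
    simp [h x hx x hx a ha, hxw]
  obtain ⟨h1, hh1, h10⟩ := exists_mem_notMem_span_singleton (U := H) (by omega) (0 : V)
  obtain ⟨h2, hh2, h21⟩ := exists_mem_notMem_span_singleton (U := H) (by omega) h1
  have hne : h1 ≠ 0 := fun e => h10 (by rw [e]; exact zero_mem _)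
  by_cases hC : T h2 h2 w = 0
  · exact h21 (by rw [key h2 hh2 hC]; exact zero_mem _)
  obtain ⟨t, ht⟩ := exists_quadratic_zero (T h1 h1 w) (T h1 h2 w) (T h2 h2 w) hC
  have := key _ (H.add_mem hh1 (H.smul_mem t hh2)) (by rw [T.grad_add_smul]; exact ht)
  rcases eq_or_ne t 0 with rfl | ht0
  · exact hne (by simpa using this)
  · refine h21 (Submodule.mem_span_singleton.2 ⟨-t⁻¹, ?_⟩)
    rw [eq_neg_of_add_eq_zero_left this, neg_smul, smul_neg, neg_neg, smul_smul,
      inv_mul_cancel₀ ht0, one_smul]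

variable [FiniteDimensional k V]

omit [IsAlgClosed k] [CharZero k] in
theorem finrank_ker_grad (hV : finrank k V = 4) (hsm : T.Smooth) {e : V} (he : e ≠ 0) :
    finrank k ↥(LinearMap.ker (T.lin e e)) = 3 := by
  obtain ⟨w, hw⟩ := T.exists_grad_eq_one hsm he
  have hsurj : Function.Surjective (T.lin e e) := fun r => ⟨r • w, by simp [hw]⟩
  have := LinearMap.finrank_range_add_finrank_ker (T.lin e e)
  rw [LinearMap.range_eq_top.2 hsurj, finrank_top, finrank_self] at this
  omega

omit [IsAlgClosed k] [FiniteDimensional k V] in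
theorem line_le_ker_grad {e : V} {U : Submodule k V} (he : e ∈ U)
    (hU : ∀ u ∈ U, T.cube u = 0) : U ≤ LinearMap.ker (T.lin e e) := fun u hu => by
  simpa using T.eq_zero_of_cube_eq_zero U hU he he hu

omit [IsAlgClosed k] in
/-- Three distinct lines through `e` force the conic `T e` to vanish on the tangent plane. -/
theorem three_lines (hV : finrank k V = 4) (hsm : T.Smooth) {e : V} (he : e ≠ 0)
    {U : Fin 3 → Submodule k V} (hU : Function.Injective U)
    (h : ∀ i, finrank k ↥(U i) = 2 ∧ e ∈ U i ∧ ∀ u ∈ U i, T.cube u = 0) :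
    U 0 ⊔ U 1 = LinearMap.ker (T.lin e e) ∧
      (∀ x ∈ LinearMap.ker (T.lin e e), ∀ y ∈ LinearMap.ker (T.lin e e), T e x y = 0) ∧
      ∃ p ∈ U 0, ∃ q ∈ U 1, p ∉ Submodule.span k {e} ∧ q ∉ Submodule.span k {e} ∧
        p + q ∈ U 2 ∧ U 0 = Submodule.span k {e, p} ∧ U 1 = Submodule.span k {e, q} ∧
        U 2 = Submodule.span k {e, p + q} := by
  have hle := fun i => T.line_le_ker_grad (h i).2.1 (h i).2.2
  have h3 := T.finrank_ker_grad hV hsm he
  have hsup : U 0 ⊔ U 1 = LinearMap.ker (T.lin e e) := by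
    refine Submodule.eq_of_le_of_finrank_le (sup_le (hle 0) (hle 1)) ?_
    have h1 : U 0 < U 0 ⊔ U 1 := lt_of_le_of_ne le_sup_left fun he' => by
      have hle' : U 1 ≤ U 0 := by rw [he']; exact le_sup_right
      exact absurd (hU (Submodule.eq_of_le_of_finrank_le hle' (by rw [(h 1).1, (h 0).1])))
        (by decide)
    have := Submodule.finrank_lt_finrank_of_lt h1
    rw [(h 0).1] at this; omega
  obtain ⟨c, hc, hce⟩ := exists_mem_notMem_span_singleton (U := U 2) (by rw [(h 2).1]) e
  obtain ⟨p, hp, q, hq, rfl⟩ := Submodule.mem_sup.1 (hsup ▸ hle 2 hc : c ∈ U 0 ⊔ U 1)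
  have hU2 := eq_span_pair (h 2).1 (h 2).2.1 hc he hce
  have hpe : p ∉ Submodule.span k {e} := by
    intro hpe
    obtain ⟨r, rfl⟩ := Submodule.mem_span_singleton.1 hpe
    have hle' : U 2 ≤ U 1 := by
      rw [hU2, Submodule.span_le]
      rintro x (rfl | rfl)
      · exact (h 1).2.1
      · exact (U 1).add_mem ((U 1).smul_mem _ (h 1).2.1) hq
    exact absurd (hU (Submodule.eq_of_le_of_finrank_le hle' (by rw [(h 1).1, (h 2).1])))
      (by decide)
  have hqe : q ∉ Submodule.span k {e} := by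
    intro hqe
    obtain ⟨r, rfl⟩ := Submodule.mem_span_singleton.1 hqe
    have hle' : U 2 ≤ U 0 := by
      rw [hU2, Submodule.span_le]
      rintro x (rfl | rfl)
      · exact (h 0).2.1
      · exact (U 0).add_mem hp ((U 0).smul_mem _ (h 0).2.1)
    exact absurd (hU (Submodule.eq_of_le_of_finrank_le hle' (by rw [(h 0).1, (h 2).1])))
      (by decide)
  have hU0 := eq_span_pair (h 0).1 (h 0).2.1 hp he hpe
  have hU1 := eq_span_pair (h 1).1 (h 1).2.1 hq he hqe
  have z := fun i => @T.eq_zero_of_cube_eq_zero _ _ _ _ _ _ (U i) (h i).2.2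
  have hpp := z 0 (h 0).2.1 hp hp
  have hqq := z 1 (h 1).2.1 hq hq
  have hpq : T e p q = 0 := by
    have := z 2 (h 2).2.1 hc hc
    simp [hpp, hqq, T.symm₂ e q p] at this
    linear_combination this
  refine ⟨hsup, ?_, p, hp, q, hq, hpe, hqe, hc, hU0, hU1, hU2⟩
  have he3 := z 0 (h 0).2.1 (h 0).2.1 (h 0).2.1
  have hep := z 0 (h 0).2.1 (h 0).2.1 hp
  have heq := z 1 (h 1).2.1 (h 1).2.1 hq
  intro x hx y hy
  rw [← hsup, hU0, hU1] at hx hy
  obtain ⟨x0, hx0, x1, hx1, rfl⟩ := Submodule.mem_sup.1 hx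
  obtain ⟨y0, hy0, y1, hy1, rfl⟩ := Submodule.mem_sup.1 hy
  obtain ⟨a, b, rfl⟩ := Submodule.mem_span_pair.1 hx0
  obtain ⟨a', b', rfl⟩ := Submodule.mem_span_pair.1 hx1
  obtain ⟨c, d, rfl⟩ := Submodule.mem_span_pair.1 hy0
  obtain ⟨c', d', rfl⟩ := Submodule.mem_span_pair.1 hy1
  simp [hpp, hqq, hpq, he3, hep, heq, T.symm₂ e p e, T.symm₂ e q e, T.symm₂ e q p]

omit [IsAlgClosed k] in
theorem IsEckardt.exists_harmonic (hV : finrank k V = 4) (hsm : T.Smooth) {e : V}
    (hE : T.IsEckardt e) : ∃ φ, T.Harmonic e φ := by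
  obtain ⟨he, U, hU, h⟩ := hE
  have hQ := (T.three_lines hV hsm he hU h).2.1
  have h0 := T.eq_zero_of_cube_eq_zero _ (h 0).2.2 (h 0).2.1 (h 0).2.1 (h 0).2.1
  obtain ⟨w, hw⟩ := T.exists_grad_eq_one hsm he
  refine ⟨T.lin e w - (T e w w / 2) • T.lin e e, ?_, h0, fun x y => ?_⟩
  · simp [h0, T.symm₂ e w e, hw]
  · have hm : ∀ z, z - T e e z • w ∈ LinearMap.ker (T.lin e e) := fun z => by simp [hw]
    have := hQ _ (hm x) _ (hm y)
    simp [T.symm₂ e x w] at this ⊢
    linear_combination this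

omit [IsAlgClosed k] [FiniteDimensional k V] in
theorem Harmonic.unique (hsm : T.Smooth) {e : V} (he : e ≠ 0) {φ ψ : V →ₗ[k] k}
    (hφ : T.Harmonic e φ) (hψ : T.Harmonic e ψ) : φ = ψ := by
  obtain ⟨w, hw⟩ := T.exists_grad_eq_one hsm he
  have e1 : φ w = ψ w := by
    have := (hφ.2.2 w w).symm.trans (hψ.2.2 w w)
    rw [hw] at this
    linear_combination this / 2
  ext x
  have := (hφ.2.2 x w).symm.trans (hψ.2.2 x w)
  rw [hw, e1] at this
  linear_combination this

omit [IsAlgClosed k] [CharZero k] [FiniteDimensional k V] in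
theorem Harmonic.refl_refl {e : V} {φ : V →ₗ[k] k} (hφ : T.Harmonic e φ) (x : V) :
    (x - (2 * φ x) • e) - (2 * φ (x - (2 * φ x) • e)) • e = x := by
  simp [hφ.1]; module

omit [IsAlgClosed k] [CharZero k] [FiniteDimensional k V] in
theorem Harmonic.refl_polar {e : V} {φ : V →ₗ[k] k} (hφ : T.Harmonic e φ) (x y z : V) :
    T (x - (2 * φ x) • e) (y - (2 * φ y) • e) (z - (2 * φ z) • e) = T x y z := by
  simp only [T.sub₁, T.sub₂, T.sub₃, T.smul₁, T.smul₂, T.smul₃]
  rw [← T.rot e x y, T.symm₁ x e z, T.rot x e e, T.symm₂ e y e, hφ.2.1, hφ.2.2 y z,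
    hφ.2.2 x z, hφ.2.2 x y]
  ring

omit [IsAlgClosed k] [CharZero k] [FiniteDimensional k V] in
/-- An isometry moves Eckardt points to Eckardt points. -/
theorem IsEckardt.map {e : V} (hE : T.IsEckardt e) (g : V ≃ₗ[k] V)
    (hg : ∀ x y z, T (g x) (g y) (g z) = T x y z) : T.IsEckardt (g e) := by
  obtain ⟨he, U, hU, h⟩ := hE
  refine ⟨by simpa using he, fun i => (U i).map (g : V →ₗ[k] V),
    fun i j hij => hU (Submodule.map_injective_of_injective g.injective hij), fun i => ?_⟩
  refine ⟨by rw [LinearEquiv.finrank_map_eq]; exact (h i).1, Submodule.mem_map_of_mem (h i).2.1, ?_⟩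
  rintro _ ⟨u, hu, rfl⟩
  exact (hg u u u).trans ((h i).2.2 u hu)

omit [FiniteDimensional k V] in
/-- A binary cubic without double zeros has three distinct zeros. -/
theorem exists_three_zeros (P : Submodule k V) (hP : finrank k ↥P = 2)
    (hns : ∀ h ∈ P, T.cube h = 0 → (∀ y ∈ P, T h h y = 0) → h = 0) :
    ∃ z : Fin 3 → V, (∀ i, z i ∈ P ∧ z i ≠ 0 ∧ T.cube (z i) = 0) ∧
      ∀ i j, i ≠ j → z i ∉ Submodule.span k {z j} := by
  have root : ∀ a ∈ P, ∀ b ∈ P, a ≠ 0 → b ∉ Submodule.span k {a} →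
      ∀ t : k, T.cube (a + t • b) = 0 → T (a + t • b) (a + t • b) b = 0 → False := by
    intro a ha b hb ha0 hba t hc hd
    have hm := P.add_mem ha (P.smul_mem t hb)
    have h0 := hns _ hm hc fun y hy => by
      rw [eq_span_pair hP ha hb ha0 hba] at hy
      obtain ⟨r, s, rfl⟩ := Submodule.mem_span_pair.1 hy
      have e1 : T (a + t • b) (a + t • b) a = 0 := by
        have : T (a + t • b) (a + t • b) (a + t • b) = 0 := hc
        rw [T.add₃, T.smul₃, hd] at this
        linear_combination this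
      rw [T.add₃, T.smul₃, T.smul₃, e1, hd]; ring
    rcases eq_or_ne t 0 with rfl | ht
    · exact ha0 (by simpa using h0)
    · refine hba (Submodule.mem_span_singleton.2 ⟨-t⁻¹, ?_⟩)
      rw [eq_neg_of_add_eq_zero_left h0, neg_smul, smul_neg, neg_neg, smul_smul,
        inv_mul_cancel₀ ht, one_smul]
  obtain ⟨a, ha, ha'⟩ := exists_mem_notMem_span_singleton (U := P) (by omega) (0 : V)
  have ha0 : a ≠ 0 := fun e => ha' (by rw [e]; exact zero_mem _)
  obtain ⟨b, hb, hba⟩ := exists_mem_notMem_span_singleton (U := P) (by omega) a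
  obtain ⟨z, hz, hz0, hzc⟩ : ∃ z ∈ P, z ≠ 0 ∧ T.cube z = 0 := by
    by_cases hD : T.cube b = 0
    · exact ⟨b, hb, fun e => hba (by rw [e]; exact zero_mem _), hD⟩
    · let p : Polynomial k := Polynomial.C (T.cube b) * Polynomial.X ^ 3
        + Polynomial.C (3 * T a b b) * Polynomial.X ^ 2
        + Polynomial.C (3 * T a a b) * Polynomial.X + Polynomial.C (T.cube a)
      have hp : p.degree = 3 := Polynomial.degree_cubic hD
      obtain ⟨t, ht⟩ := IsAlgClosed.exists_root p (by rw [hp]; exact (by norm_num))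
      refine ⟨a + t • b, P.add_mem ha (P.smul_mem t hb), ?_, ?_⟩
      · intro e
        rcases eq_or_ne t 0 with rfl | ht0
        · exact ha0 (by simpa using e)
        · refine hba (Submodule.mem_span_singleton.2 ⟨-t⁻¹, ?_⟩)
          rw [eq_neg_of_add_eq_zero_left e, neg_smul, smul_neg, neg_neg, smul_smul,
            inv_mul_cancel₀ ht0, one_smul]
      · rw [T.cube_add_smul]
        simp [p] at ht
        linear_combination ht
  -- `z` is the zero at infinity
  obtain ⟨a, ha, haz⟩ := exists_mem_notMem_span_singleton (U := P) (by omega) z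
  have ha0 : a ≠ 0 := fun e => haz (by rw [e]; exact zero_mem _)
  have hza : z ∉ Submodule.span k {a} := by
    intro h
    obtain ⟨r, rfl⟩ := Submodule.mem_span_singleton.1 h
    have hr : r ≠ 0 := fun e => hz0 (by simp [e])
    exact haz (Submodule.mem_span_singleton.2 ⟨r⁻¹, by rw [smul_smul, inv_mul_cancel₀ hr, one_smul]⟩)
  set C := T a z z with hCdef
  have hC : C ≠ 0 := by
    intro hC0
    refine hz0 (hns z hz hzc fun y hy => ?_)
    rw [eq_span_pair hP ha hz ha0 hza] at hy
    obtain ⟨r, s, rfl⟩ := Submodule.mem_span_pair.1 hy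
    have : T z z z = 0 := hzc
    simp [this, ← T.rot a z z, ← hCdef, hC0]
  obtain ⟨r, hr⟩ :=
    IsAlgClosed.exists_pow_nat_eq ((3 * T a a z) ^ 2 - 12 * C * T.cube a) (n := 2) (by norm_num)
  have hr0 : r ≠ 0 := by
    rintro rfl
    refine root a ha z hz ha0 hza (-(3 * T a a z) / (6 * C)) ?_ ?_
    · rw [T.cube_add_smul, hzc, ← hCdef]
      field_simp
      linear_combination 18 * C ^ 2 * hr
    · rw [T.grad_add_smul, ← hCdef, show T z z z = 0 from hzc]
      field_simp
      ring
  let t : Fin 2 → k := ![(-(3 * T a a z) + r) / (6 * C), (-(3 * T a a z) - r) / (6 * C)]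
  have ht : ∀ i, T.cube (a + t i • z) = 0 := by
    intro i
    rw [T.cube_add_smul, hzc, ← hCdef]
    fin_cases i <;> simp only [t] <;> simp <;> field_simp <;> linear_combination 3 * hr
  have htne : t 0 ≠ t 1 := by
    simp [t]
    field_simp
    intro h
    exact hr0 (by linear_combination h / 2)
  have indep : ∀ s s' r : k, r • (a + s • z) = a + s' • z → s = s' := by
    intro s s' r h
    by_cases hr1 : r = 1
    · subst hr1
      have : (s - s') • z = 0 := by rw [one_smul] at h; linear_combination (norm := module) h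
      simpa [hz0, sub_eq_zero] using this
    · refine absurd (Submodule.mem_span_singleton.2 ⟨(s' - r * s) / (r - 1), ?_⟩) haz
      have h1 : (r - 1) • a = (s' - r * s) • z := by linear_combination (norm := module) h
      rw [div_eq_inv_mul, mul_smul, ← h1, smul_smul, inv_mul_cancel₀ (sub_ne_zero.2 hr1), one_smul]
  have hne : ∀ s : k, a + s • z ∉ Submodule.span k {z} := fun s h => haz (by
    simpa using (Submodule.span k {z}).sub_mem h
      ((Submodule.span k {z}).smul_mem s (Submodule.mem_span_singleton_self z)))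
  have hne' : ∀ s : k, z ∉ Submodule.span k {a + s • z} := by
    intro s h
    obtain ⟨c, hc⟩ := Submodule.mem_span_singleton.1 h
    rcases eq_or_ne c 0 with rfl | hc0
    · exact hz0 (by simpa using hc.symm)
    · refine hne s (Submodule.mem_span_singleton.2 ⟨c⁻¹, ?_⟩)
      conv_lhs => rw [← hc]
      rw [smul_smul, inv_mul_cancel₀ hc0, one_smul]
  refine ⟨![a + t 0 • z, a + t 1 • z, z], ?_, ?_⟩
  · intro i
    fin_cases i
    · exact ⟨P.add_mem ha (P.smul_mem _ hz), fun e => hne (t 0) (by rw [show a + t 0 • z = 0 from e]; exact zero_mem _), ht 0⟩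
    · exact ⟨P.add_mem ha (P.smul_mem _ hz), fun e => hne (t 1) (by rw [show a + t 1 • z = 0 from e]; exact zero_mem _), ht 1⟩
    · exact ⟨hz, hz0, hzc⟩
  · intro i j hij
    fin_cases i <;> fin_cases j <;> simp at hij ⊢
    all_goals first
      | exact hne _
      | exact hne' _
      | (intro h
         obtain ⟨c, hc⟩ := Submodule.mem_span_singleton.1 h
         first
          | exact htne (indep _ _ _ hc)
          | exact htne (indep _ _ _ hc).symm)

/-- The cubic reflection symmetry at `p` makes `p` an Eckardt point. -/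
theorem isEckardt_of_harmonic (hV : finrank k V = 4) (hsm : T.Smooth) {p : V} (hp : p ≠ 0)
    {φ : V →ₗ[k] k} (hφ : T.Harmonic p φ) : T.IsEckardt p := by
  obtain ⟨w, hw⟩ := T.exists_grad_eq_one hsm hp
  set L := T.lin p p with hL
  have hsurj : Function.Surjective (φ.prod L) := by
    rintro ⟨a, b⟩
    exact ⟨(a - b * φ w) • p + b • w, by simp [L, hφ.1, hφ.2.1, hw]⟩
  set P := LinearMap.ker (φ.prod L) with hP
  have hP2 : finrank k ↥P = 2 := by
    have := LinearMap.finrank_range_add_finrank_ker (φ.prod L)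
    rw [LinearMap.range_eq_top.2 hsurj, finrank_top, finrank_prod, finrank_self, ← hP] at this
    omega
  have memP : ∀ x, x ∈ P ↔ φ x = 0 ∧ T p p x = 0 := fun x => by simp [P, L]
  obtain ⟨z, hz, hz'⟩ := T.exists_three_zeros P hP2 (by
    intro h hh hc hgrad
    obtain ⟨hφh, hLh⟩ := (memP h).1 hh
    have hhp : T h h p = 0 := by rw [T.symm₁₃, hφ.2.2]; simp [hφh]
    obtain ⟨s, hs⟩ := IsAlgClosed.exists_pow_nat_eq (-T h h (w - φ w • p)) (n := 2) (by norm_num)
    have h0 := hsm (h + s • p) fun c => by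
      rw [T.grad_add_smul]
      have hc' : c - φ c • p - T p p c • (w - φ w • p) ∈ P := by
        rw [memP]; simp [hφ.1, hφ.2.1, hw]
      have := hgrad _ hc'
      simp [hhp] at this
      rw [T.symm₁ h p c, hφ.2.2]
      simp [hφh, hLh]
      simp [hhp] at hs
      linear_combination this + T p p c * hs
    have hs0 : s = 0 := by
      have := congrArg φ h0
      simpa [hφh, hφ.1] using this
    simpa [hs0] using h0)
  have hzp : ∀ i, z i ∉ Submodule.span k {p} := by
    intro i h
    obtain ⟨r, hr⟩ := Submodule.mem_span_singleton.1 h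
    have := ((memP _).1 (hz i).1).1
    rw [← hr, map_smul, hφ.1] at this
    exact (hz i).2.1 (by simpa [show r = 0 by simpa using this] using hr.symm)
  refine ⟨hp, fun i => Submodule.span k {p, z i}, fun i j hij => ?_, fun i => ⟨finrank_span_pair hp
    (hzp i), Submodule.subset_span (by simp), ?_⟩⟩
  · by_contra hne
    have hm : z i ∈ Submodule.span k ({p, z j} : Set V) := by
      have hij' : Submodule.span k ({p, z i} : Set V) = Submodule.span k {p, z j} := hij
      rw [← hij']; exact Submodule.subset_span (by simp)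
    obtain ⟨a, b, hab⟩ := Submodule.mem_span_pair.1 hm
    have h1 := congrArg φ hab
    rw [map_add, map_smul, map_smul, hφ.1, ((memP _).1 (hz i).1).1, ((memP _).1 (hz j).1).1] at h1
    simp at h1
    rw [h1, zero_smul, zero_add] at hab
    exact hz' i j hne (Submodule.mem_span_singleton.2 ⟨b, hab⟩)
  · obtain ⟨hφi, hLi⟩ := (memP _).1 (hz i).1
    exact T.cube_eq_zero_on_span_pair hφ.2.1 hLi (by rw [hφ.2.2]; simp [hφi]) (hz i).2.2

/-- At most three lines through a point of a smooth cubic surface. -/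
theorem not_four_lines (hV : finrank k V = 4) (hsm : T.Smooth) {e : V} (he : e ≠ 0)
    (U : Fin 4 → Submodule k V) (hU : Function.Injective U)
    (h : ∀ i, finrank k ↥(U i) = 2 ∧ e ∈ U i ∧ ∀ u ∈ U i, T.cube u = 0) : False := by
  have h01 : ∀ i : Fin 4, 2 ≤ i → U i ≠ U 0 ∧ U i ≠ U 1 := by
    intro i hi
    constructor <;> intro e' <;> have := hU e' <;> subst this <;> exact absurd hi (by decide)
  obtain ⟨hsup, hQ, p, hp, q, hq, hpe, hqe, hc, hU0, hU1, hU2⟩ :=
    T.three_lines hV hsm he (U := fun i : Fin 3 => U i.castSucc)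
      (hU.comp (Fin.castSucc_injective 3)) (fun i => h i.castSucc)
  obtain ⟨c, hc3, hce⟩ := exists_mem_notMem_span_singleton (U := U 3) (by rw [(h 3).1]) e
  have hU3 := eq_span_pair (h 3).1 (h 3).2.1 hc3 he hce
  have hmem : c ∈ U 0 ⊔ U 1 := by
    have := T.line_le_ker_grad (h 3).2.1 (h 3).2.2 hc3
    rw [← hsup] at this; exact this
  simp only [show (Fin.castSucc (0 : Fin 3)) = (0 : Fin 4) from rfl,
    show (Fin.castSucc (1 : Fin 3)) = (1 : Fin 4) from rfl,
    show (Fin.castSucc (2 : Fin 3)) = (2 : Fin 4) from rfl] at hsup hp hq hc hU0 hU1 hU2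
  obtain ⟨c0, hc0, c1, hc1, rfl⟩ := Submodule.mem_sup.1 hmem
  rw [hU0] at hc0; rw [hU1] at hc1
  obtain ⟨u, α, rfl⟩ := Submodule.mem_span_pair.1 hc0
  obtain ⟨v, β, rfl⟩ := Submodule.mem_span_pair.1 hc1
  have z := fun i => @T.eq_zero_of_cube_eq_zero _ _ _ _ _ _ (U i) (h i).2.2
  have hd : α • p + β • q ∈ U 3 := by
    have h1 := (U 3).sub_mem hc3 ((U 3).smul_mem (u + v) (h 3).2.1)
    rw [show α • p + β • q = u • e + α • p + (v • e + β • q) - (u + v) • e by module]
    exact h1
  have e1 : T p p p = 0 := z 0 hp hp hp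
  have e2 : T q q q = 0 := z 1 hq hq hq
  have e3 : T p p q + T p q q = 0 := by
    have := z 2 hc hc hc
    simp only [T.add₁, T.add₂, T.add₃] at this
    rw [T.symm₁ q p q, T.symm₁₃ q q p, T.rot q p p, T.symm₂ p q p, e1, e2] at this
    linear_combination this / 3
  have e4 : α ^ 2 * β * T p p q + α * β ^ 2 * T p q q = 0 := by
    have := z 3 hd hd hd
    simp only [T.add₁, T.add₂, T.add₃, T.smul₁, T.smul₂, T.smul₃] at this
    rw [T.symm₁ q p q, T.symm₁₃ q q p, T.rot q p p, T.symm₂ p q p, e1, e2] at this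
    linear_combination this / 3
  have hα : α ≠ 0 := by
    rintro rfl
    refine (h01 3 (by decide)).2 (Submodule.eq_of_le_of_finrank_le ?_ (by rw [(h 3).1, (h 1).1]))
    rw [hU3, Submodule.span_le]
    rintro x (rfl | rfl)
    · exact (h 1).2.1
    · rw [zero_smul, add_zero]
      exact (U 1).add_mem ((U 1).smul_mem _ (h 1).2.1)
        ((U 1).add_mem ((U 1).smul_mem _ (h 1).2.1) ((U 1).smul_mem _ hq))
  have hβ : β ≠ 0 := by
    rintro rfl
    refine (h01 3 (by decide)).1 (Submodule.eq_of_le_of_finrank_le ?_ (by rw [(h 3).1, (h 0).1]))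
    rw [hU3, Submodule.span_le]
    rintro x (rfl | rfl)
    · exact (h 0).2.1
    · rw [zero_smul, add_zero]
      exact (U 0).add_mem ((U 0).add_mem ((U 0).smul_mem _ (h 0).2.1) ((U 0).smul_mem _ hp))
        ((U 0).smul_mem _ (h 0).2.1)
  have hαβ : α ≠ β := by
    rintro rfl
    have : U 3 = U 2 := by
      refine Submodule.eq_of_le_of_finrank_le ?_ (by rw [(h 3).1, (h 2).1])
      rw [hU3, Submodule.span_le]
      rintro x (rfl | rfl)
      · exact (h 2).2.1
      · have h1 := (U 2).add_mem ((U 2).smul_mem (u + v) (h 2).2.1) ((U 2).smul_mem α hc)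
        rw [show (u • e + α • p + (v • e + α • q)) = (u + v) • e + α • (p + q) by module]
        exact h1
    exact absurd (hU this) (by decide)
  have hA : T p p q = 0 := by
    have : (α * β * (α - β)) * T p p q = 0 := by linear_combination e4 - α * β ^ 2 * e3
    simpa [hα, hβ, sub_ne_zero.2 hαβ] using this
  have hB : T p q q = 0 := by simpa [hA] using e3
  refine T.no_plane hV hsm _ (T.finrank_ker_grad hV hsm he) ?_
  have hpk := T.line_le_ker_grad (h 0).2.1 (h 0).2.2 hp
  have hqk := T.line_le_ker_grad (h 1).2.1 (h 1).2.2 hq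
  have hek := T.line_le_ker_grad (h 0).2.1 (h 0).2.2 (h 0).2.1
  intro x hx y hy w hw
  apply T.eq_zero_of_cube_eq_zero (LinearMap.ker (T.lin e e)) _ hx hy hw
  intro m hm
  have hsplit : ∃ a b c : k, m = a • e + (b • p + c • q) := by
    rw [← hsup, hU0, hU1] at hm
    obtain ⟨m0, h0, m1, h1, rfl⟩ := Submodule.mem_sup.1 hm
    obtain ⟨a, b, rfl⟩ := Submodule.mem_span_pair.1 h0
    obtain ⟨a', b', rfl⟩ := Submodule.mem_span_pair.1 h1
    exact ⟨a + a', b, b', by module⟩
  obtain ⟨a, b, c, rfl⟩ := hsplit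
  have hn : b • p + c • q ∈ LinearMap.ker (T.lin e e) :=
    add_mem (Submodule.smul_mem _ _ hpk) (Submodule.smul_mem _ _ hqk)
  rw [← one_smul k (b • p + c • q), T.cube_comb, show T.cube e = 0 from hQ _ hek _ hek,
    hQ _ hek _ hn, hQ _ hn _ hn, T.cube_comb, show T.cube p = 0 from e1,
    show T.cube q = 0 from e2, hA, hB]
  ring

end Tri

end GrothLib.CubicForm
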