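import Groth.Agent.Lib.CubicForm.Plane
import Groth.Prelude.Def_W4c5monodromycubicsHesse
import Mathlib.RingTheory.RootsOfUnity.AlgebraicallyClosed
import Mathlib.RingTheory.RootsOfUnity.PrimitiveRoots

/-!
# The Hesse normal form of a smooth plane cubic
-/

namespace GrothLib.CubicForm

universe u v

open Matrix

variable {k : Type u} [Field k]

/-- The trilinear form of `6 (σ X³ + Y³ + Z³) - 6 μ XYZ`. -/
def hesseTri (σ μ : k) : Tri k (Fin 3 → k) where
  toFun a b c := 6 * σ * (a 0 * b 0 * c 0) + 6 * (a 1 * b 1 * c 1) + 6 * (a 2 * b 2 * c 2) -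
    μ * (a 0 * b 1 * c 2 + a 0 * b 2 * c 1 + a 1 * b 0 * c 2 + a 1 * b 2 * c 0 + a 2 * b 0 * c 1 +
      a 2 * b 1 * c 0)
  add_left a a' b c := by simp only [Pi.add_apply]; ring
  smul_left r a b c := by simp only [Pi.smul_apply, smul_eq_mul]; ring
  symm₁ a b c := by ring
  symm₂ a b c := by ring

theorem hesseTri_cube (σ μ : k) (a : Fin 3 → k) :
    (hesseTri σ μ).cube a = 6 * (σ * a 0 ^ 3 + a 1 ^ 3 + a 2 ^ 3 - μ * (a 0 * a 1 * a 2)) := by
  simp only [Tri.cube, hesseTri]; ring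

variable [CharZero k]

theorem Tri.ext_of_cube {V : Type v} [AddCommGroup V] [Module k V] (T T' : Tri k V) (c : k)
    (h : ∀ a, T.cube a = c * T'.cube a) (x y z : V) : T x y z = c * T' x y z := by
  let D : Tri k V :=
    { toFun := fun x y z => T x y z - c * T' x y z
      add_left := fun a a' b d => by simp; ring
      smul_left := fun r a b d => by simp; ring
      symm₁ := fun a b d => by rw [T.symm₁, T'.symm₁ a]
      symm₂ := fun a b d => by rw [T.symm₂, T'.symm₂ a] }
  have hD : ∀ u ∈ (⊤ : Submodule k V), D.cube u = 0 := fun u _ => by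
    show T.cube u - c * T'.cube u = 0
    rw [h u]; ring
  exact sub_eq_zero.1 (D.eq_zero_of_cube_eq_zero ⊤ hD (a := x) (b := y) (c := z) trivial trivial trivial)

omit [CharZero k] in
theorem eval_hesse (t : k) (v : Fin 3 → k) :
    MvPolynomial.eval v (HesseCubic.form t) =
      v 0 ^ 3 + v 1 ^ 3 + v 2 ^ 3 - 3 * t * (v 0 * v 1 * v 2) := by
  simp [HesseCubic.form]

omit [CharZero k] in
theorem isHomogeneous_hesse (t : k) : (HesseCubic.form t).IsHomogeneous 3 := by
  refine (((MvPolynomial.isHomogeneous_X_pow 0 3).add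
    (MvPolynomial.isHomogeneous_X_pow 1 3)).add (MvPolynomial.isHomogeneous_X_pow 2 3)).sub ?_
  exact MvPolynomial.IsHomogeneous.C_mul
    (((MvPolynomial.isHomogeneous_X k 0).mul (MvPolynomial.isHomogeneous_X k 1)).mul
      (MvPolynomial.isHomogeneous_X k 2)) _

theorem ofPoly_hesse (t : k) (a b c : Fin 3 → k) :
    ofPoly (HesseCubic.form t) a b c = hesseTri 1 (3 * t) a b c := by
  rw [Tri.ext_of_cube (ofPoly (HesseCubic.form t)) (hesseTri 1 (3 * t)) 1 (fun v => by
    rw [ofPoly_cube (isHomogeneous_hesse t), eval_hesse, hesseTri_cube]; ring), one_mul]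

theorem hesseTri_smooth {t : k} (ht : t ^ 3 ≠ 1) : (hesseTri 1 (3 * t)).Smooth := by
  intro a ha
  have e0 : a 0 ^ 2 = t * (a 1 * a 2) := by
    have := ha (Pi.single 0 1)
    simp [hesseTri] at this
    linear_combination this / 6
  have e1 : a 1 ^ 2 = t * (a 0 * a 2) := by
    have := ha (Pi.single 1 1)
    simp [hesseTri] at this
    linear_combination this / 6
  have e2 : a 2 ^ 2 = t * (a 0 * a 1) := by
    have := ha (Pi.single 2 1)
    simp [hesseTri] at this
    linear_combination this / 6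
  have hprod : a 0 * a 1 * a 2 = 0 := by
    have h : (1 - t ^ 3) * (a 0 * a 1 * a 2) ^ 2 = 0 := by
      have : a 0 ^ 2 * a 1 ^ 2 * a 2 ^ 2 = t * (a 1 * a 2) * (t * (a 0 * a 2)) * (t * (a 0 * a 1)) := by
        rw [e0, e1, e2]
      linear_combination this
    rcases mul_eq_zero.1 h with h | h
    · exact absurd (sub_eq_zero.1 h).symm ht
    · exact pow_eq_zero_iff (by norm_num) |>.1 h
  have h3 : a 0 = 0 ∧ a 1 = 0 ∧ a 2 = 0 := by
    rcases mul_eq_zero.1 hprod with h | h
    · rcases mul_eq_zero.1 h with h | h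
      · rw [h] at e1 e2; simp at e1 e2; exact ⟨h, e1, e2⟩
      · rw [h] at e0 e2; simp at e0 e2; exact ⟨e0, h, e2⟩
    · rw [h] at e0 e1; simp at e0 e1; exact ⟨e0, e1, h⟩
  funext i; fin_cases i <;> simp [h3.1, h3.2.1, h3.2.2]

theorem ofPoly_hesse_smooth {t : k} (ht : t ^ 3 ≠ 1) :
    (ofPoly (HesseCubic.form t)).Smooth := fun a ha =>
  hesseTri_smooth ht a fun c => by rw [← ofPoly_hesse]; exact ha c

/-- The Hessian determinant of a Hesse cubic. -/
theorem det_hess_hesse (t : k) (v : Fin 3 → k) :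
    ((ofPoly (HesseCubic.form t)).hess v).det =
      216 * ((1 - t ^ 3) * (v 0 * v 1 * v 2) -
        t ^ 2 / 4 * MvPolynomial.eval v (HesseCubic.form t)) := by
  rw [eval_hesse, Matrix.det_fin_three]
  simp [Tri.hess, ofPoly_hesse, hesseTri]
  ring

theorem exists_primitive_three [IsAlgClosed k] : ∃ ω : k, ω ^ 3 = 1 ∧ 1 + ω + ω ^ 2 = 0 := by
  obtain ⟨ω, hω⟩ := HasEnoughRootsOfUnity.exists_primitiveRoot k 3
  refine ⟨ω, hω.pow_eq_one, ?_⟩
  have := hω.geom_sum_eq_zero (by norm_num)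
  simpa [Finset.sum_range_succ] using this

theorem weierstrass_form [IsAlgClosed k] (T : Tri k (Fin 3 → k)) (hsm : T.Smooth) :
    (∃ v, v ≠ 0 ∧ T v v v = 0 ∧ T.Flex v) →
    ∃ (P w u : Fin 3 → k) (a b : k),
      (∀ x y z : k, x • w + y • P + z • u = 0 → x = 0 ∧ y = 0 ∧ z = 0) ∧
      ∀ x y z : k, T.cube (x • w + y • P + z • u) =
        3 * (y ^ 2 * z - x ^ 3 - a * x * z ^ 2 - b * z ^ 3) := by
  rintro ⟨P, hP, hP3, w₀, hw₀, hPPw, hPww⟩
  obtain ⟨u₀, hu₀⟩ : ∃ u, T P P u = 1 := by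
    by_contra! h
    refine hP (hsm P fun c => ?_)
    by_contra hc
    exact h ((T P P c)⁻¹ • c) (by simp [hc])
  -- complete the square in `y`
  set w₁ := w₀ - T P w₀ u₀ • P with hw₁
  have k1 : T P P w₁ = 0 := by simp [hw₁, hPPw, hP3]
  have k2 : T P w₁ w₁ = 0 := by simp [hw₁, hPww, hPPw, hP3, T.symm₂ P w₀ P]
  have k3 : T P w₁ u₀ = 0 := by simp [hw₁, hu₀]
  have hw₁P : w₁ ∉ Submodule.span k {P} := fun h => hw₀ (by
    simpa [hw₁] using (Submodule.span k {P}).add_mem h
      ((Submodule.span k {P}).smul_mem (T P w₀ u₀) (Submodule.mem_span_singleton_self P)))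
  have indep₀ : ∀ x y z : k, x • w₁ + y • P + z • u₀ = 0 → x = 0 ∧ y = 0 ∧ z = 0 := by
    intro x y z h
    have hz : z = 0 := by
      have := congrArg (T.lin P P) h
      simpa [k1, hP3, hu₀] using this
    subst hz
    have hx : x = 0 := by
      by_contra hx
      refine hw₁P (Submodule.mem_span_singleton.2 ⟨-y / x, ?_⟩)
      have h' : x • w₁ = (-y) • P := by linear_combination (norm := module) h
      rw [div_eq_inv_mul, mul_smul, ← h', smul_smul, inv_mul_cancel₀ hx, one_smul]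
    subst hx
    exact ⟨rfl, by simpa [hP] using h, rfl⟩
  have hC : T w₁ w₁ w₁ ≠ 0 := by
    intro hC
    by_cases hg : T w₁ w₁ u₀ = 0
    · -- `w₁` would be singular
      have h0 := hsm w₁ fun c => ?_
      · exact hw₁P (h0 ▸ zero_mem _)
      · have hspan : ∃ x y z : k, c = x • w₁ + y • P + z • u₀ := by
          have hli : LinearIndependent k ![w₁, P, u₀] := by
            rw [Fintype.linearIndependent_iff]
            intro g hg' i
            obtain ⟨h0, h1, h2⟩ := indep₀ (g 0) (g 1) (g 2) (by simpa [Fin.sum_univ_three] using hg')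
            fin_cases i <;> assumption
          have htop := hli.span_eq_top_of_card_eq_finrank' (by simp)
          obtain ⟨g, hg'⟩ := (Submodule.mem_span_range_iff_exists_fun k).1
            (htop ▸ Submodule.mem_top : c ∈ _)
          exact ⟨g 0, g 1, g 2, by rw [← hg']; simp [Fin.sum_univ_three]⟩
        obtain ⟨x, y, z, rfl⟩ := hspan
        simp [hC, hg, ← T.rot P w₁ w₁, k2]
    · -- the tangent line would be a component, and carry a singular point
      obtain ⟨r, hr⟩ := IsAlgClosed.exists_pow_nat_eq (-T w₁ w₁ u₀) (n := 2) (by norm_num)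
      have h0 := hsm (w₁ + r • P) fun c => ?_
      · have := indep₀ 1 r 0 (by simpa using h0)
        exact one_ne_zero this.1
      · have hspan : ∃ x y z : k, c = x • w₁ + y • P + z • u₀ := by
          have hli : LinearIndependent k ![w₁, P, u₀] := by
            rw [Fintype.linearIndependent_iff]
            intro g hg' i
            obtain ⟨h0, h1, h2⟩ := indep₀ (g 0) (g 1) (g 2) (by simpa [Fin.sum_univ_three] using hg')
            fin_cases i <;> assumption
          have htop := hli.span_eq_top_of_card_eq_finrank' (by simp)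
          obtain ⟨g, hg'⟩ := (Submodule.mem_span_range_iff_exists_fun k).1
            (htop ▸ Submodule.mem_top : c ∈ _)
          exact ⟨g 0, g 1, g 2, by rw [← hg']; simp [Fin.sum_univ_three]⟩
        obtain ⟨x, y, z, rfl⟩ := hspan
        simp only [T.grad_add_smul, T.add₃, T.smul₃]
        rw [T.symm₁ w₁ P w₁, T.symm₁ w₁ P P, T.symm₂ P w₁ P, T.symm₁ w₁ P u₀, ← T.rot P w₁ w₁,
          hC, k2, k1, k3, hP3, hu₀]
        linear_combination z * hr
  -- scale `w₁`
  obtain ⟨s, hs⟩ := IsAlgClosed.exists_pow_nat_eq (-3 / T w₁ w₁ w₁) (n := 3) (by norm_num)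
  have hs0 : s ≠ 0 := by
    rintro rfl
    rw [zero_pow three_ne_zero] at hs
    exact div_ne_zero (by norm_num) hC hs.symm
  set w := s • w₁ with hw
  have l1 : T P P w = 0 := by simp [hw, k1]
  have l2 : T P w w = 0 := by simp [hw, k2]
  have l3 : T P w u₀ = 0 := by simp [hw, k3]
  have l4 : T w w w = -3 := by
    simp only [hw, T.smul₁, T.smul₂, T.smul₃]
    field_simp at hs
    linear_combination hs
  -- move `u₀`
  set u := u₀ + (-T P u₀ u₀ / 2) • P + (T w w u₀ / 3) • w with hu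
  have m1 : T P P u = 1 := by simp [hu, hu₀, hP3, l1]
  have m3 : T P w u = 0 := by simp [hu, l3, l2, T.symm₂ P w P, l1]
  have m2 : T P u u = 0 := by
    simp [hu, l3, T.symm₂ P u₀ P, T.symm₂ P u₀ w, hu₀, hP3, l1, l2, T.symm₂ P w P]
    ring
  have m4 : T w w u = 0 := by
    simp [hu, l4, ← T.rot P w w, l2]
  refine ⟨P, w, u, -T w u u, -T u u u / 3, fun x y z h => ?_, fun x y z => ?_⟩
  · obtain ⟨hx, hy, hz⟩ := indep₀ (x * s + z * (T w w u₀ / 3) * s) (y + z * (-T P u₀ u₀ / 2)) z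
      (by rw [hu, hw] at h; linear_combination (norm := module) h)
    subst hz
    simp [hs0] at hx hy
    exact ⟨hx, hy, rfl⟩
  · rw [T.cube_add_smul, T.cube_comb, T.grad_comb]
    simp only [T.add₁, T.smul₁]
    rw [T.symm₁ w P P, T.symm₂ P w P, T.symm₁ w P u, ← T.rot P w w]
    simp only [Tri.cube]
    rw [show T P P P = 0 from hP3, l1, l2, l4, m1, m2, m3, m4]
    ring

theorem weierstrass_nonsingular (T : Tri k (Fin 3 → k)) (hsm : T.Smooth) (P w u : Fin 3 → k) (a b : k)
    (hind : ∀ x y z : k, x • w + y • P + z • u = 0 → x = 0 ∧ y = 0 ∧ z = 0)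
    (hcube : ∀ x y z : k, T.cube (x • w + y • P + z • u) =
      3 * (y ^ 2 * z - x ^ 3 - a * x * z ^ 2 - b * z ^ 3))
    (x₀ : k) (h1 : x₀ ^ 3 + a * x₀ + b = 0) : 3 * x₀ ^ 2 + a ≠ 0 := by
  intro h2
  have h0 := hsm (x₀ • w + u) fun c => ?_
  · have := (hind x₀ 0 1 (by simpa using h0)).2.2
    exact one_ne_zero this
  · let D : Tri k (Fin 3 → k) :=
      { toFun := fun p q r => T (p 0 • w + p 1 • P + p 2 • u) (q 0 • w + q 1 • P + q 2 • u)
          (r 0 • w + r 1 • P + r 2 • u)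
        add_left := fun p p' q r => by simp [add_smul]; ring
        smul_left := fun s p q r => by simp [mul_smul]; ring
        symm₁ := fun p q r => T.symm₁ ..
        symm₂ := fun p q r => T.symm₂ .. }
    let E : Tri k (Fin 3 → k) :=
      { toFun := fun p q r =>
          (p 1 * q 1 * r 2 + p 1 * q 2 * r 1 + p 2 * q 1 * r 1) -
            3 * (p 0 * q 0 * r 0) -
            a * (p 0 * q 2 * r 2 + p 2 * q 0 * r 2 + p 2 * q 2 * r 0) -
            3 * b * (p 2 * q 2 * r 2)
        add_left := fun p p' q r => by simp only [Pi.add_apply]; ring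
        smul_left := fun s p q r => by simp only [Pi.smul_apply, smul_eq_mul]; ring
        symm₁ := fun p q r => by ring
        symm₂ := fun p q r => by ring }
    have hDE := Tri.ext_of_cube D E 1 fun p => by
      show T.cube (p 0 • w + p 1 • P + p 2 • u) = _
      rw [hcube]; simp only [Tri.cube, E]; ring
    have hli : LinearIndependent k ![w, P, u] := by
      rw [Fintype.linearIndependent_iff]
      intro g hg' i
      obtain ⟨h0, h1, h2⟩ := hind (g 0) (g 1) (g 2) (by simpa [Fin.sum_univ_three] using hg')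
      fin_cases i <;> assumption
    obtain ⟨g, rfl⟩ := (Submodule.mem_span_range_iff_exists_fun k).1
      ((hli.span_eq_top_of_card_eq_finrank' (by simp)) ▸ Submodule.mem_top : c ∈ _)
    have := hDE ![x₀, 0, 1] ![x₀, 0, 1] g
    simp [D, E] at this
    rw [show ∑ i, g i • (![w, P, u]) i = g 0 • w + g 1 • P + g 2 • u by simp [Fin.sum_univ_three]]
    simp only [T.add₁, T.add₂, T.add₃, T.smul₁, T.smul₂, T.smul₃]
    linear_combination this - (g 0 - x₀ * g 2) * h2 - 3 * g 2 * h1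

theorem weierstrass_second_flex [IsAlgClosed k] (a b : k)
    (hsing : ∀ x₀, x₀ ^ 3 + a * x₀ + b = 0 → 3 * x₀ ^ 2 + a ≠ 0) :
    ∃ x₀ y₀ l : k, y₀ ≠ 0 ∧ l ≠ 0 ∧ y₀ ^ 2 = x₀ ^ 3 + a * x₀ + b ∧
      2 * y₀ * l = 3 * x₀ ^ 2 + a ∧ l ^ 2 = 3 * x₀ := by
  obtain ⟨x₀, hx₀, hψ⟩ : ∃ x₀, x₀ ≠ 0 ∧ 3 * x₀ ^ 4 + 6 * a * x₀ ^ 2 + 12 * b * x₀ - a ^ 2 = 0 := by
    by_cases ha : a = 0
    · obtain ⟨r, hr⟩ := IsAlgClosed.exists_pow_nat_eq (-4 * b) (n := 3) (by norm_num)
      refine ⟨r, ?_, by subst ha; linear_combination 3 * r * hr⟩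
      rintro rfl
      have hb : b = 0 := by simpa [eq_comm] using hr
      exact hsing 0 (by simp [ha, hb]) (by simp [ha])
    · let p : Polynomial k := Polynomial.C 3 * Polynomial.X ^ 4 + Polynomial.C (6 * a) * Polynomial.X ^ 2
        + Polynomial.C (12 * b) * Polynomial.X - Polynomial.C (a ^ 2)
      have hp : p.degree ≠ 0 := by
        have : p.degree = 4 := by simp only [p]; compute_degree!
        rw [this]; exact (by norm_num)
      obtain ⟨r, hr⟩ := IsAlgClosed.exists_root p hp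
      refine ⟨r, ?_, by simpa [p] using hr⟩
      rintro rfl
      simp [p, ha] at hr
  obtain ⟨y₀, hy₀⟩ := IsAlgClosed.exists_pow_nat_eq (x₀ ^ 3 + a * x₀ + b) (n := 2) (by norm_num)
  have hy : y₀ ≠ 0 := by
    rintro rfl
    have h1 : x₀ ^ 3 + a * x₀ + b = 0 := by linear_combination -hy₀
    refine hsing x₀ h1 ?_
    have : (3 * x₀ ^ 2 + a) ^ 2 = 0 := by linear_combination 12 * x₀ * h1 - hψ
    exact pow_eq_zero_iff (by norm_num) |>.1 this
  set l := (3 * x₀ ^ 2 + a) / (2 * y₀) with hl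
  have hl2 : l ^ 2 = 3 * x₀ := by
    rw [hl]; field_simp
    linear_combination -hψ - 12 * x₀ * hy₀
  have hl0 : l ≠ 0 := by
    intro h; rw [h] at hl2; exact hx₀ (by simpa using hl2.symm)
  have hla : 2 * y₀ * l = 3 * x₀ ^ 2 + a := by rw [hl]; field_simp
  exact ⟨x₀, y₀, l, hy, hl0, hy₀, hla, hl2⟩

theorem exists_hesse_unscaled [IsAlgClosed k] (T : Tri k (Fin 3 → k)) (hsm : T.Smooth) (P w u : Fin 3 → k) (a b : k)
    (hind : ∀ x y z : k, x • w + y • P + z • u = 0 → x = 0 ∧ y = 0 ∧ z = 0)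
    (hcube : ∀ x y z : k, T.cube (x • w + y • P + z • u) =
      3 * (y ^ 2 * z - x ^ 3 - a * x * z ^ 2 - b * z ^ 3)) :
    ∃ (Ψ : (Fin 3 → k) →ₗ[k] (Fin 3 → k)) (K : k), Function.Injective Ψ ∧ K ≠ 0 ∧ 1 - 27 * K ≠ 0 ∧
      ∀ x y z, T (Ψ x) (Ψ y) (Ψ z) = 1 / (2 * K) * hesseTri (1 - 27 * K) 3 x y z := by
  obtain ⟨x₀, y₀, l, hy, hl0, hy₀, hla, hl2⟩ :=
    weierstrass_second_flex a b (weierstrass_nonsingular T hsm P w u a b hind hcube)
  set K := y₀ / (4 * l ^ 3) with hK
  have hK0 : K ≠ 0 := by simp [hK, hy, hl0]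
  obtain ⟨ω, hω3, hω⟩ := exists_primitive_three (k := k)
  -- the change of coordinates
  let Ψ : (Fin 3 → k) →ₗ[k] (Fin 3 → k) :=
    { toFun := fun p =>
        let x' := p 0 + p 1 + p 2
        let y' := p 0 + ω * p 1 + ω ^ 2 * p 2
        let z' := p 0 + ω ^ 2 * p 1 + ω * p 2
        (x' + y' + z' + x₀ * (-(l / y₀) * z')) • w + (l * (x' - y')) • P + (-(l / y₀) * z') • u
      map_add' := fun p q => by simp only [Pi.add_apply]; module
      map_smul' := fun s p => by simp only [Pi.smul_apply, smul_eq_mul, RingHom.id_apply]; module }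
  have hΨcube : ∀ p, T.cube (Ψ p) =
      (3 / K) * ((1 - 27 * K) * p 0 ^ 3 + p 1 ^ 3 + p 2 ^ 3 - 3 * (p 0 * p 1 * p 2)) := by
    intro p
    set x' := p 0 + p 1 + p 2
    set y' := p 0 + ω * p 1 + ω ^ 2 * p 2
    set z' := p 0 + ω ^ 2 * p 1 + ω * p 2
    show T.cube ((x' + y' + z' + x₀ * (-(l / y₀) * z')) • w + (l * (x' - y')) • P +
      (-(l / y₀) * z') • u) = _
    rw [hcube]
    have hprod : x' * y' * z' = p 0 ^ 3 + p 1 ^ 3 + p 2 ^ 3 - 3 * (p 0 * p 1 * p 2) := by
      simp only [x', y', z']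
      linear_combination (p 1 ^ 3 + p 2 ^ 3) * hω3 + (p 0 ^ 2 * p 1 + p 0 ^ 2 * p 2 + p 0 * p 1 ^ 2 * ω
        + p 0 * p 2 ^ 2 * ω + ω ^ 2 * p 1 ^ 2 * p 2 + ω ^ 2 * p 1 * p 2 ^ 2 + 3 * p 0 * p 1 * p 2) * hω
        + (p 0 * p 1 * p 2 * ω) * hω3
    have hsum : x' + y' + z' = 3 * p 0 := by
      simp only [x', y', z']
      linear_combination (p 1 + p 2) * hω
    have hb : b = y₀ ^ 2 - x₀ ^ 3 - a * x₀ := by linear_combination -hy₀
    have ha : a = 2 * y₀ * l - 3 * x₀ ^ 2 := by linear_combination -hla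
    have hx : x₀ = l ^ 2 / 3 := by linear_combination -hl2 / 3
    calc _ = 3 * (1 / K * (x' * y' * z') - (x' + y' + z') ^ 3) := by
          rw [hb, ha, hx, hK]
          field_simp
          ring
      _ = _ := by
          rw [hprod, hsum]
          field_simp
          ring
  have hpol : ∀ x y z, T (Ψ x) (Ψ y) (Ψ z) = 1 / (2 * K) * hesseTri (1 - 27 * K) 3 x y z :=
    Tri.ext_of_cube
      { toFun := fun x y z => T (Ψ x) (Ψ y) (Ψ z)
        add_left := fun a a' b c => by simp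
        smul_left := fun r a b c => by simp
        symm₁ := fun a b c => T.symm₁ ..
        symm₂ := fun a b c => T.symm₂ .. } _ _ fun p => by
      show T.cube (Ψ p) = _
      rw [hΨcube, hesseTri_cube]; field_simp; ring
  have hω1 : ω ≠ 1 := by rintro rfl; norm_num at hω
  have hω0 : ω ≠ 0 := by rintro rfl; norm_num at hω3
  have hΨinj : Function.Injective Ψ := by
    rw [injective_iff_map_eq_zero]
    intro p hp
    obtain ⟨h0, h1, h2⟩ := hind _ _ _ hp
    have hz : p 0 + ω ^ 2 * p 1 + ω * p 2 = 0 := by simpa [hl0, hy] using h2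
    rw [hz] at h0
    have hxy : p 0 + p 1 + p 2 = p 0 + ω * p 1 + ω ^ 2 * p 2 := by
      simpa [hl0, sub_eq_zero] using h1
    have hx : p 0 + p 1 + p 2 = 0 := by
      have : 2 * (p 0 + p 1 + p 2) = 0 := by linear_combination h0 + hxy
      simpa using this
    have hy' := hxy.symm.trans hx
    have e0 : p 0 = 0 := by linear_combination (hx + hy' + hz - (p 1 + p 2) * hω) / 3
    have e12 : p 1 + p 2 = 0 := by linear_combination hx - e0
    have e : ω * (1 - ω) * p 1 = 0 := by linear_combination hy' - e0 - ω ^ 2 * e12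
    have e1 : p 1 = 0 := by simpa [hω0, sub_eq_zero, hω1.symm] using e
    have e2 : p 2 = 0 := by linear_combination e12 - e1
    funext i; fin_cases i <;> simp [e0, e1, e2]
  have hσ : 1 - 27 * K ≠ 0 := by
    intro h
    have h0 := hsm (Ψ ![1, 0, 0]) fun c => ?_
    · have := hΨinj (h0.trans (map_zero Ψ).symm)
      simpa using congrFun this 0
    · obtain ⟨c, rfl⟩ := LinearMap.surjective_of_injective hΨinj c
      rw [hpol, h]; simp [hesseTri]
  exact ⟨Ψ, K, hΨinj, hK0, hσ, hpol⟩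

/-- Every smooth plane cubic with a flex is equivalent to a Hesse cubic. -/
theorem exists_hesse [IsAlgClosed k] (T : Tri k (Fin 3 → k)) (hsm : T.Smooth)
    (hfl : ∃ v, v ≠ 0 ∧ T v v v = 0 ∧ T.Flex v) :
    ∃ (Φ : (Fin 3 → k) →ₗ[k] (Fin 3 → k)) (t c : k), Function.Injective Φ ∧ t ^ 3 ≠ 1 ∧ c ≠ 0 ∧
      ∀ x y z, T (Φ x) (Φ y) (Φ z) = c * hesseTri 1 (3 * t) x y z := by
  obtain ⟨P, w, u, a, b, hind, hcube⟩ := weierstrass_form T hsm hfl
  obtain ⟨Ψ, K, hΨinj, hK0, hσ, hpol⟩ := exists_hesse_unscaled T hsm P w u a b hind hcube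
  obtain ⟨δ, hδ⟩ := IsAlgClosed.exists_pow_nat_eq (1 - 27 * K) (n := 3) (by norm_num)
  have hδ0 : δ ≠ 0 := fun h => hσ (by rw [← hδ, h]; simp)
  let D : (Fin 3 → k) →ₗ[k] (Fin 3 → k) :=
    { toFun := fun p => ![p 0 / δ, p 1, p 2]
      map_add' := fun p q => by funext i; fin_cases i <;> simp [add_div]
      map_smul' := fun s p => by funext i; fin_cases i <;> simp [mul_div_assoc] }
  refine ⟨Ψ ∘ₗ D, 1 / δ, 1 / (2 * K), hΨinj.comp fun p q h => ?_, ?_, by simp [hK0], fun x y z => ?_⟩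
  · funext i
    have := congrFun h i
    fin_cases i <;> simpa [D, hδ0, div_left_inj'] using this
  · intro h
    field_simp at h
    exact hK0 (by linear_combination (h + hδ) / 27)
  · rw [LinearMap.comp_apply, LinearMap.comp_apply, LinearMap.comp_apply, hpol]
    congr 1
    simp [hesseTri, D, ← hδ]
    field_simp

end GrothLib.CubicForm
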