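import Groth.Agent.Lib.CubicForm.HesseFlex
import Mathlib.LinearAlgebra.Matrix.Permutation
import Mathlib.Algebra.Polynomial.Roots
import Mathlib.RingTheory.RootsOfUnity.Basic

/-!
# Automorphisms of a general Hesse cubic
-/

namespace GrothLib.CubicForm

universe u

open Matrix MvPolynomial

variable {k : Type u} [Field k] [CharZero k]

/-- The monomial matrix `v ↦ (i ↦ d i * v (σ i))`. -/
def monomialMat (σ : Equiv.Perm (Fin 3)) (d : Fin 3 → k) : Matrix (Fin 3) (Fin 3) k :=
  Matrix.of fun i j => if σ i = j then d i else 0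

omit [CharZero k] in
theorem monomialMat_mulVec (σ : Equiv.Perm (Fin 3)) (d : Fin 3 → k) (v : Fin 3 → k) (i : Fin 3) :
    (monomialMat σ d).mulVec v i = d i * v (σ i) := by
  simp [monomialMat, Matrix.mulVec, dotProduct]

omit [CharZero k] in
theorem det_monomialMat (σ : Equiv.Perm (Fin 3)) (d : Fin 3 → k) :
    (monomialMat σ d).det = ((Equiv.Perm.sign σ : ℤ) : k) * (d 0 * d 1 * d 2) := by
  have h : monomialMat σ d = Matrix.diagonal d * σ.permMatrix k := by
    ext i j
    simp [monomialMat, Matrix.diagonal_mul, Equiv.Perm.permMatrix, PEquiv.toMatrix_apply, eq_comm]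
  rw [h, Matrix.det_mul, Matrix.det_diagonal, Matrix.det_permutation, Fin.prod_univ_three, mul_comm]

omit [CharZero k] in
theorem eval_hesse_monomialMat (t : k) (σ : Equiv.Perm (Fin 3)) (d : Fin 3 → k) {c : k}
    (h3 : ∀ i, d i ^ 3 = c) (hp : d 0 * d 1 * d 2 = c) (v : Fin 3 → k) :
    eval ((monomialMat σ d).mulVec v) (HesseCubic.form t) = c * eval v (HesseCubic.form t) := by
  rw [eval_hesse, eval_hesse]
  simp only [monomialMat_mulVec, mul_pow, h3]
  have hs : v (σ 0) ^ 3 + v (σ 1) ^ 3 + v (σ 2) ^ 3 = v 0 ^ 3 + v 1 ^ 3 + v 2 ^ 3 := by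
    simpa [Fin.sum_univ_three] using Equiv.sum_comp σ fun i => v i ^ 3
  have hq : v (σ 0) * v (σ 1) * v (σ 2) = v 0 * v 1 * v 2 := by
    simpa [Fin.prod_univ_three] using Equiv.prod_comp σ v
  linear_combination c * hs - 3 * t * (d 0 * d 1 * d 2) * hq - 3 * t * (v 0 * v 1 * v 2) * hp

/-- The trilinear form of `6 X Y Z`. -/
def prodTri : Tri k (Fin 3 → k) where
  toFun a b c := a 0 * b 1 * c 2 + a 0 * b 2 * c 1 + a 1 * b 0 * c 2 + a 1 * b 2 * c 0 +
    a 2 * b 0 * c 1 + a 2 * b 1 * c 0
  add_left a a' b c := by simp only [Pi.add_apply]; ring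
  smul_left r a b c := by simp only [Pi.smul_apply, smul_eq_mul]; ring
  symm₁ a b c := by ring
  symm₂ a b c := by ring

omit [CharZero k] in
theorem prodTri_cube (a : Fin 3 → k) : (prodTri (k := k)).cube a = 6 * (a 0 * a 1 * a 2) := by
  simp [Tri.cube, prodTri]; ring

/-- The exceptional parameters. -/
def Generic (t : k) : Prop :=
  t ≠ 0 ∧ t ^ 3 ≠ 1 ∧
    ∀ γ γ' : k, γ ^ 3 = 1 → γ' ^ 3 = 1 → 4 + 2 * t ^ 3 - 3 * t ^ 2 * (γ + γ') ≠ 0

/-- A point where a member of the Hesse pencil moved by `A` is singular. -/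
theorem pencil_singular (A : Matrix (Fin 3) (Fin 3) k) (hA : IsUnit A.det) (σ m : k) (hσ : σ ≠ 0)
    (h : ∀ v, (A.mulVec v 0 * A.mulVec v 1 * A.mulVec v 2) =
      σ * (v 0 ^ 3 + v 1 ^ 3 + v 2 ^ 3) + m * (v 0 * v 1 * v 2)) :
    ∃ γ : k, γ ^ 3 = 1 ∧ m = -3 * γ * σ := by
  let D : Tri k (Fin 3 → k) :=
    { toFun := fun x y z => (prodTri (k := k)) (A.mulVec x) (A.mulVec y) (A.mulVec z)
      add_left := fun a a' b c => by rw [Matrix.mulVec_add, Tri.add₁]
      smul_left := fun r a b c => by rw [Matrix.mulVec_smul, Tri.smul₁]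
      symm₁ := fun a b c => (prodTri (k := k)).symm₁ ..
      symm₂ := fun a b c => (prodTri (k := k)).symm₂ .. }
  have hD := Tri.ext_of_cube D (hesseTri 1 (-(m / σ))) σ fun v => by
    show (prodTri (k := k)).cube (A.mulVec v) = _
    rw [prodTri_cube, hesseTri_cube, h]
    field_simp
    ring
  set w := A⁻¹.mulVec ![1, 0, 0] with hw
  have hAw : A.mulVec w = ![1, 0, 0] := mulVec_inv_mulVec A hA _
  have hw0 : w ≠ 0 := fun e => by
    rw [e, Matrix.mulVec_zero] at hAw
    simpa using congrFun hAw 0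
  have g : ∀ c, hesseTri 1 (-(m / σ)) w w c = 0 := by
    intro c
    have := hD w w c
    change (prodTri (k := k)) (A.mulVec w) (A.mulVec w) (A.mulVec c) = _ at this
    rw [hAw] at this
    have h0 : (prodTri (k := k)) ![1, 0, 0] ![1, 0, 0] (A.mulVec c) = 0 := by simp [prodTri]
    rw [h0] at this
    simpa [hσ] using this.symm
  -- otherwise that member would be smooth
  refine ⟨-m / (3 * σ), ?_, by field_simp⟩
  by_contra hne
  have hs := hesseTri_smooth (k := k) (t := -m / (3 * σ)) hne w fun c => by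
    rw [show 3 * (-m / (3 * σ)) = -(m / σ) by field_simp]
    exact g c
  exact hw0 hs

/-- A matrix each of whose coordinate planes is in the zero locus of the product of its rows is
monomial. -/
theorem exists_monomialMat (A : Matrix (Fin 3) (Fin 3) k) (hA : IsUnit A.det)
    (h : ∀ v : Fin 3 → k, v 0 * v 1 * v 2 = 0 → A.mulVec v 0 * A.mulVec v 1 * A.mulVec v 2 = 0) :
    ∃ (σ : Equiv.Perm (Fin 3)) (d : Fin 3 → k), A = monomialMat σ d := by
  -- each coordinate plane is a row's kernel
  have key : ∀ j, ∃ i, ∀ l, l ≠ j → A i l = 0 := by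
    intro j
    by_contra! hne
    have hv : ∀ t : k, ∃ i : Fin 3,
        A i (j + 1) + t * A i (j + 2) = 0 := by
      intro t
      let v : Fin 3 → k := fun l => if l = j + 1 then 1 else if l = j + 2 then t else 0
      have hvA : ∀ i, A.mulVec v i = A i (j + 1) + t * A i (j + 2) := by
        intro i
        fin_cases j <;> simp [v, Matrix.mulVec, dotProduct, Fin.sum_univ_three] <;> ring
      have := h v (by fin_cases j <;> simp [v])
      rw [hvA, hvA, hvA] at this
      rcases mul_eq_zero.1 this with h' | h'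
      · rcases mul_eq_zero.1 h' with h' | h' <;> exact ⟨_, h'⟩
      · exact ⟨_, h'⟩
    choose f hf using fun n : Fin 4 => hv (n : ℕ)
    obtain ⟨a, b, hab, hfab⟩ := Fintype.exists_ne_map_eq_of_card_lt f (by simp)
    have ha := hf a; have hb := hf b
    rw [hfab] at ha
    have h2 : A (f b) (j + 2) = 0 := by
      have : ((a : ℕ) - (b : ℕ) : k) * A (f b) (j + 2) = 0 := by linear_combination ha - hb
      rcases mul_eq_zero.1 this with h' | h'
      · exact absurd (Fin.val_injective (Nat.cast_injective (sub_eq_zero.1 h'))) hab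
      · exact h'
    have h1 : A (f b) (j + 1) = 0 := by rw [h2, mul_zero, add_zero] at hb; exact hb
    obtain ⟨l, hl, hl'⟩ := hne (f b)
    have : l = j + 1 ∨ l = j + 2 := by revert hl; fin_cases j <;> fin_cases l <;> simp
    rcases this with rfl | rfl <;> contradiction
  choose r hr using key
  have hinj : Function.Injective r := by
    intro a b hab
    by_contra hne
    refine hA.ne_zero (Matrix.det_eq_zero_of_row_eq_zero (r a) fun l => ?_)
    by_cases hl : l = a
    · rw [hab]; exact hr b l (hl ▸ hne)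
    · exact hr a l hl
  let e := Equiv.ofBijective r (Finite.injective_iff_bijective.1 hinj)
  refine ⟨e.symm, fun i => A i (e.symm i), ?_⟩
  ext i j
  simp only [monomialMat, Matrix.of_apply]
  split_ifs with hij
  · rw [hij]
  · have := hr (e.symm i) j (Ne.symm hij)
    rwa [show r (e.symm i) = i from e.apply_symm_apply i] at this

theorem prod_rows (A : Matrix (Fin 3) (Fin 3) k) (hdet : A.det = 1) (t c : k)
    (ht : t ^ 3 ≠ 1)
    (h : ∀ v, eval (A.mulVec v) (HesseCubic.form t) = c * eval v (HesseCubic.form t)) (v : Fin 3 → k) :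
    A.mulVec v 0 * A.mulVec v 1 * A.mulVec v 2 =
      c ^ 3 * (v 0 * v 1 * v 2) +
        t ^ 2 * (c - c ^ 3) / (4 * (1 - t ^ 3)) * eval v (HesseCubic.form t) := by
  have hpol := ofPoly_polar_of_subst (isHomogeneous_hesse t) A c h
  have := Tri.det_hess_transform (ofPoly (HesseCubic.form t)) A c hpol v
  rw [det_hess_hesse, det_hess_hesse, hdet, Fintype.card_fin, h v] at this
  have h0 : (1 : k) - t ^ 3 ≠ 0 := sub_ne_zero.2 ht.symm
  field_simp
  linear_combination this / 54

theorem prod_rows_of_generic (A : Matrix (Fin 3) (Fin 3) k) (hdet : A.det = 1) {t c : k}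
    (ht : Generic t) (hc : c ≠ 0)
    (h : ∀ v, eval (A.mulVec v) (HesseCubic.form t) = c * eval v (HesseCubic.form t)) :
    ∀ v, A.mulVec v 0 * A.mulVec v 1 * A.mulVec v 2 = c ^ 3 * (v 0 * v 1 * v 2) := by
  obtain ⟨ht0, ht1, htγ⟩ := ht
  have hA : IsUnit A.det := by rw [hdet]; exact isUnit_one
  have h0 : (1 : k) - t ^ 3 ≠ 0 := sub_ne_zero.2 ht1.symm
  have hdet' : A⁻¹.det = 1 := by rw [Matrix.det_nonsing_inv, hdet, Ring.inverse_one]
  have h' : ∀ v, eval (A⁻¹.mulVec v) (HesseCubic.form t) = c⁻¹ * eval v (HesseCubic.form t) := by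
    intro v
    have := h (A⁻¹.mulVec v)
    rw [mulVec_inv_mulVec A hA] at this
    rw [this, ← mul_assoc, inv_mul_cancel₀ hc, one_mul]
  have hp := prod_rows A hdet t c ht1 h
  suffices hq : c ^ 2 = 1 by
    intro v; rw [hp v, show c - c ^ 3 = 0 by linear_combination -c * hq]; simp
  by_contra hq
  have rel : ∀ (B : Matrix (Fin 3) (Fin 3) k) (e : k), B.det = 1 → e ≠ 0 → e ^ 2 ≠ 1 →
      (∀ v, eval (B.mulVec v) (HesseCubic.form t) = e * eval v (HesseCubic.form t)) →
      ∃ γ, γ ^ 3 = 1 ∧ 4 * (1 - t ^ 3) * e ^ 2 = 3 * (t - γ) * t ^ 2 * (1 - e ^ 2) := by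
    intro B e hB he he2 hBh
    set s := t ^ 2 * (e - e ^ 3) / (4 * (1 - t ^ 3)) with hs
    have hs0 : s ≠ 0 := by
      rw [hs]
      refine div_ne_zero (mul_ne_zero (pow_ne_zero 2 ht0) fun h => he2 ?_)
        (mul_ne_zero (by norm_num) h0)
      have : e * (1 - e ^ 2) = 0 := by linear_combination h
      have : 1 - e ^ 2 = 0 := (mul_eq_zero.1 this).resolve_left he
      linear_combination -this
    obtain ⟨γ, hγ, hm⟩ := pencil_singular B (by rw [hB]; exact isUnit_one) s (e ^ 3 - 3 * t * s) hs0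
      fun v => by rw [prod_rows B hB t e ht1 hBh v, ← hs, eval_hesse]; ring
    refine ⟨γ, hγ, mul_left_cancel₀ he ?_⟩
    have hs' : s * (4 * (1 - t ^ 3)) = t ^ 2 * (e - e ^ 3) :=
      div_mul_cancel₀ _ (mul_ne_zero (by norm_num) h0)
    linear_combination 4 * (1 - t ^ 3) * hm + 3 * (t - γ) * hs'
  obtain ⟨γ, hγ, h1⟩ := rel A c hdet hc hq h
  obtain ⟨γ', hγ', h2⟩ := rel A⁻¹ c⁻¹ hdet' (inv_ne_zero hc)
    (fun e => hq (by rw [inv_pow, inv_eq_one] at e; exact e)) h'
  field_simp at h2
  refine htγ γ γ' hγ hγ' ?_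
  have hmul : 4 * (1 - t ^ 3) * (4 + 2 * t ^ 3 - 3 * t ^ 2 * (γ + γ')) = 0 := by
    linear_combination (3 * (t - γ') * t ^ 2) * h1 +
      (4 * (1 - t ^ 3) + 3 * (t - γ) * t ^ 2) * h2
  exact (mul_eq_zero.1 hmul).resolve_left (mul_ne_zero (by norm_num) h0)

/-- Parametrisation of the automorphisms of determinant one. -/
def autMat (p : Equiv.Perm (Fin 3) × rootsOfUnity 3 k × rootsOfUnity 3 k) : Matrix (Fin 3) (Fin 3) k :=
  monomialMat p.1 fun i => ((Equiv.Perm.sign p.1 : ℤ) : k) *
    ![((p.2.1 : kˣ) : k), ((p.2.2 : kˣ) : k), (((p.2.1 : kˣ) : k) * ((p.2.2 : kˣ) : k)) ^ 2] i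

theorem card_aut [IsAlgClosed k] {t : k} (ht : Generic t) :
    Nat.card {A : Matrix (Fin 3) (Fin 3) k // A.det = 1 ∧
      ∃ c : k, aeval (fun i : Fin 3 => ∑ j : Fin 3, C (A i j) * X j) (HesseCubic.form t) =
        C c * HesseCubic.form t} = 54 := by
  have hs : ∀ σ : Equiv.Perm (Fin 3), ((Equiv.Perm.sign σ : ℤ) : k) ^ 2 = 1 := by
    intro σ; rcases Int.units_eq_one_or (Equiv.Perm.sign σ) with h | h <;> simp [h]
  have hz : ∀ z : rootsOfUnity 3 k, ((z : kˣ) : k) ^ 3 = 1 := fun z => by
    have := (mem_rootsOfUnity 3 (z : kˣ)).1 z.2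
    simpa using congrArg (fun u : kˣ => (u : k)) this
  let F : Equiv.Perm (Fin 3) × rootsOfUnity 3 k × rootsOfUnity 3 k →
      {A : Matrix (Fin 3) (Fin 3) k // A.det = 1 ∧
        ∃ c : k, aeval (fun i : Fin 3 => ∑ j : Fin 3, C (A i j) * X j) (HesseCubic.form t) =
          C c * HesseCubic.form t} :=
    fun p => ⟨autMat p, by
      set a := ((p.2.1 : kˣ) : k)
      set b := ((p.2.2 : kˣ) : k)
      set s := ((Equiv.Perm.sign p.1 : ℤ) : k)
      have hprod : s * a * (s * b) * (s * (a * b) ^ 2) = s := by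
        linear_combination (a * b) ^ 3 * s * hs p.1 + s * b ^ 3 * hz p.2.1 + s * hz p.2.2
      refine ⟨?_, s, MvPolynomial.funext fun v => ?_⟩
      · rw [autMat, det_monomialMat]
        simp only [Matrix.cons_val_zero, Matrix.cons_val_one, Matrix.cons_val]
        rw [hprod]; linear_combination hs p.1
      · rw [eval_aeval_linSubst, eval_mul, eval_C, autMat]
        refine eval_hesse_monomialMat t _ _ (fun i => ?_) ?_ v
        · have h3 : s ^ 3 = s := by linear_combination s * hs p.1
          fin_cases i <;> simp only [Fin.zero_eta, Fin.mk_one, Fin.reduceFinMk, Matrix.cons_val_zero,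
            Matrix.cons_val_one, Matrix.cons_val, mul_pow]
          · linear_combination s ^ 3 * hz p.2.1 + h3
          · linear_combination s ^ 3 * hz p.2.2 + h3
          · linear_combination s ^ 3 * b ^ 6 * (a ^ 3 + 1) * hz p.2.1 +
              s ^ 3 * (b ^ 3 + 1) * hz p.2.2 + h3
        · simpa only [Matrix.cons_val_zero, Matrix.cons_val_one, Matrix.cons_val] using hprod⟩
  have hsne : ∀ σ : Equiv.Perm (Fin 3), ((Equiv.Perm.sign σ : ℤ) : k) ≠ 0 := fun σ e => by
    simpa [e] using hs σ
  have hF : Function.Bijective F := by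
    constructor
    · rintro ⟨σ, a, b⟩ ⟨τ, a', b'⟩ he
      have he' : ∀ i j, autMat (σ, a, b) i j = autMat (τ, a', b') i j := fun i j =>
        congrFun (congrFun (Subtype.mk.inj he) i) j
      have hne : ∀ i, ((Equiv.Perm.sign σ : ℤ) : k) *
          ![((a : kˣ) : k), ((b : kˣ) : k), (((a : kˣ) : k) * ((b : kˣ) : k)) ^ 2] i ≠ 0 := by
        intro i
        refine mul_ne_zero (hsne σ) ?_
        fin_cases i <;> simp
      have hστ : σ = τ := by
        ext1 i
        by_contra hne'
        have := he' i (σ i)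
        simp only [autMat, monomialMat, Matrix.of_apply, if_pos, if_neg (Ne.symm hne')] at this
        exact hne i this
      subst hστ
      have h0 := he' 0 (σ 0); have h1 := he' 1 (σ 1)
      simp [autMat, monomialMat, hsne σ] at h0 h1
      exact Prod.ext rfl (Prod.ext (Subtype.ext (Units.ext h0)) (Subtype.ext (Units.ext h1)))
    · rintro ⟨A, hdet, c, hc⟩
      have h := (linSubst_eq_iff A _ c).1 hc
      have hA : IsUnit A.det := by rw [hdet]; exact isUnit_one
      have hc0 : c ≠ 0 := by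
        rintro rfl
        have := h (A⁻¹.mulVec ![1, 0, 0])
        rw [mulVec_inv_mulVec A hA, zero_mul, eval_hesse] at this
        simp at this
      have hrows := prod_rows_of_generic A hdet ht hc0 h
      obtain ⟨σ, d, rfl⟩ := exists_monomialMat A hA fun v hv => by rw [hrows, hv, mul_zero]
      have hd3 : ∀ i, d i ^ 3 = c := by
        intro i
        have := h (Pi.single (σ i) 1)
        rw [eval_hesse, eval_hesse] at this
        simp only [monomialMat_mulVec] at this
        revert this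
        generalize hj : σ i = j
        intro this
        fin_cases i <;> simp [Pi.single_apply, σ.injective.eq_iff, ← hj] at this <;>
        · generalize hq : σ _ = q at this
          fin_cases q <;> simp at this <;> exact this
      have hdp : d 0 * d 1 * d 2 = c := by
        have := h 1
        rw [eval_hesse, eval_hesse] at this
        simp only [monomialMat_mulVec, Pi.one_apply, mul_one, hd3, mul_pow] at this
        have h3 : 3 * t * (d 0 * d 1 * d 2 - c) = 0 := by linear_combination -this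
        simpa [ht.1, sub_eq_zero] using h3
      rw [det_monomialMat, hdp] at hdet
      set s := ((Equiv.Perm.sign σ : ℤ) : k) with hs'
      have hcs : c = s := by linear_combination s * hdet - c * hs σ
      have hroot : ∀ i, (s * d i) ^ 3 = 1 := fun i => by
        rw [mul_pow, hd3, hcs]; linear_combination (s ^ 2 + 1) * hs σ
      refine ⟨(σ, rootsOfUnity.mkOfPowEq (s * d 0) (hroot 0),
        rootsOfUnity.mkOfPowEq (s * d 1) (hroot 1)), Subtype.ext ?_⟩
      show monomialMat σ _ = monomialMat σ d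
      congr 1
      funext i
      rw [← hs']
      fin_cases i <;> simp only [rootsOfUnity.coe_mkOfPowEq, Fin.zero_eta, Fin.mk_one,
        Fin.reduceFinMk, Matrix.cons_val_zero, Matrix.cons_val_one, Matrix.cons_val]
      · linear_combination d 0 * hs σ
      · linear_combination d 1 * hs σ
      · have hd2 : d 2 ≠ 0 := fun e => hc0 (by rw [← hdp, e, mul_zero])
        apply mul_right_cancel₀ hd2
        apply mul_right_cancel₀ hd2
        linear_combination (s ^ 5) * (d 0 * d 1 * d 2 + c) * hdp + (c + s) * s ^ 5 * hcs +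
          (d 2 * d 2 * d 2) * 0 * hs σ + ((s ^ 2) ^ 2 + s ^ 2 + 1) * s * hs σ - hd3 2 - hcs
  rw [← Nat.card_eq_of_bijective F hF, Nat.card_prod, Nat.card_prod,
    HasEnoughRootsOfUnity.natCard_rootsOfUnity k 3, Nat.card_eq_fintype_card, Fintype.card_perm,
    Fintype.card_fin]
  rfl

theorem exists_finset_generic [IsAlgClosed k] : ∃ T : Finset k, ∀ t : k, t ∉ T → Generic t := by
  classical
  let P : k × k → Polynomial k := fun g =>
    Polynomial.C 2 * Polynomial.X ^ 3 - Polynomial.C (3 * (g.1 + g.2)) * Polynomial.X ^ 2 +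
      Polynomial.C 4
  let R : Finset k := (Polynomial.X ^ 3 - Polynomial.C (1 : k)).roots.toFinset
  refine ⟨insert 0 R ∪ (R ×ˢ R).biUnion fun g => (P g).roots.toFinset, fun t ht => ?_⟩
  have hR : ∀ γ : k, γ ^ 3 = 1 → γ ∈ R := fun γ hγ => by
    rw [Multiset.mem_toFinset, Polynomial.mem_roots']
    exact ⟨(Polynomial.monic_X_pow_sub_C (1 : k) three_ne_zero).ne_zero, by simp [hγ]⟩
  refine ⟨fun e => ht (by simp [e]), fun e => ht (by simp [hR t e]), fun γ γ' hγ hγ' e => ht ?_⟩
  refine Finset.mem_union_right _ (Finset.mem_biUnion.2 ⟨(γ, γ'), by simp [hR γ hγ, hR γ' hγ'], ?_⟩)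
  rw [Multiset.mem_toFinset, Polynomial.mem_roots']
  refine ⟨fun h0 => ?_, ?_⟩
  · have := congrArg (fun p => Polynomial.coeff p 0) h0
    simp [P] at this
  · simp [P]; linear_combination e

end GrothLib.CubicForm
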