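import Groth.Agent.Lib.CubicForm.Hesse

/-!
# Flexes of Hesse cubics and their translations
-/

namespace GrothLib.CubicForm

universe u

open Matrix MvPolynomial

variable {k : Type u} [Field k] [CharZero k]

theorem exists_hesse_matrix [IsAlgClosed k] {f : MvPolynomial (Fin 3) k} (hf : f.IsHomogeneous 3)
    (hsm : ∀ v : Fin 3 → k, v ≠ 0 → eval v f = 0 → ∃ i, eval v (pderiv i f) ≠ 0) :
    ∃ (A : Matrix (Fin 3) (Fin 3) k) (t c : k), IsUnit A.det ∧ t ^ 3 ≠ 1 ∧ c ≠ 0 ∧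
      (∀ v, eval (A.mulVec v) f = c * eval v (HesseCubic.form t)) ∧
      ∀ x y z, ofPoly f (A.mulVec x) (A.mulVec y) (A.mulVec z) =
        c * ofPoly (HesseCubic.form t) x y z := by
  obtain ⟨Φ, t, c, hinj, ht, hc, h⟩ :=
    exists_hesse (ofPoly f) (ofPoly_smooth hf hsm) (exists_flex hf (ofPoly_smooth hf hsm))
  have hA : ∀ x, (LinearMap.toMatrix' Φ).mulVec x = Φ x := fun x => by
    rw [← Matrix.toLin'_apply, Matrix.toLin'_toMatrix']
  refine ⟨LinearMap.toMatrix' Φ, t, c, ?_, ht, hc, fun v => ?_, fun x y z => ?_⟩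
  · rw [← Matrix.isUnit_iff_isUnit_det, ← Matrix.mulVec_injective_iff_isUnit]
    simpa only [funext hA] using hinj
  · have h6 : (ofPoly f).cube (Φ v) = c * (hesseTri 1 (3 * t)).cube v := h v v v
    rw [ofPoly_cube hf, hesseTri_cube] at h6
    rw [hA, eval_hesse]
    linear_combination h6 / 6
  · rw [hA, hA, hA, ofPoly_hesse, h]

omit [CharZero k] in
theorem inv_mulVec_mulVec {n : ℕ} (A : Matrix (Fin n) (Fin n) k) (hA : IsUnit A.det) (v : Fin n → k) :
    A⁻¹.mulVec (A.mulVec v) = v := by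
  rw [Matrix.mulVec_mulVec, Matrix.nonsing_inv_mul _ hA, Matrix.one_mulVec]

omit [CharZero k] in
theorem mulVec_inv_mulVec {n : ℕ} (A : Matrix (Fin n) (Fin n) k) (hA : IsUnit A.det) (v : Fin n → k) :
    A.mulVec (A⁻¹.mulVec v) = v := by
  rw [Matrix.mulVec_mulVec, Matrix.mul_nonsing_inv _ hA, Matrix.one_mulVec]

omit [CharZero k] in
theorem flex_mulVec_iff {n : ℕ} (T T' : Tri k (Fin n → k)) (A : Matrix (Fin n) (Fin n) k)
    (hA : IsUnit A.det) {c : k} (hc : c ≠ 0)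
    (h : ∀ x y z, T (A.mulVec x) (A.mulVec y) (A.mulVec z) = c * T' x y z) (v : Fin n → k) :
    T'.Flex v ↔ T.Flex (A.mulVec v) := by
  constructor
  · rintro ⟨w, hw, h1, h2⟩
    refine ⟨A.mulVec w, fun hm => hw ?_, by rw [h, h1, mul_zero], by rw [h, h2, mul_zero]⟩
    obtain ⟨r, hr⟩ := Submodule.mem_span_singleton.1 hm
    have := congrArg (A⁻¹).mulVec hr
    rw [Matrix.mulVec_smul, inv_mulVec_mulVec A hA, inv_mulVec_mulVec A hA] at this
    exact Submodule.mem_span_singleton.2 ⟨r, this⟩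
  · rintro ⟨w, hw, h1, h2⟩
    refine ⟨A⁻¹.mulVec w, fun hm => hw ?_, ?_, ?_⟩
    · obtain ⟨r, hr⟩ := Submodule.mem_span_singleton.1 hm
      have := congrArg A.mulVec hr
      rw [Matrix.mulVec_smul, mulVec_inv_mulVec A hA] at this
      exact Submodule.mem_span_singleton.2 ⟨r, this⟩
    · have := h v v (A⁻¹.mulVec w)
      rw [mulVec_inv_mulVec A hA, h1] at this
      simpa [hc] using this.symm
    · have := h v (A⁻¹.mulVec w) (A⁻¹.mulVec w)
      rw [mulVec_inv_mulVec A hA, h2] at this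
      simpa [hc] using this.symm

/-- The nine flexes of a smooth Hesse cubic. -/
theorem hesse_flex_iff {t : k} (ht : t ^ 3 ≠ 1) {v : Fin 3 → k} (hv : v ≠ 0)
    (h0 : eval v (HesseCubic.form t) = 0) :
    (ofPoly (HesseCubic.form t)).Flex v ↔
      ∃ γ c : k, γ ^ 3 = 1 ∧ (v = c • ![0, 1, -γ] ∨ v = c • ![-γ, 0, 1] ∨ v = c • ![1, -γ, 0]) := by
  set T := ofPoly (HesseCubic.form t)
  have hv3 : T v v v = 0 := (ofPoly_cube_eq_zero_iff (isHomogeneous_hesse t) v).2 h0
  have hdet : T.Flex v ↔ v 0 * v 1 * v 2 = 0 := by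
    have h := det_hess_hesse t v
    rw [h0, mul_zero, sub_zero] at h
    constructor
    · intro hf
      have := Tri.det_hess_eq_zero_of_flex T hv hv3 hf
      rw [h] at this
      simpa [sub_eq_zero, ht.symm] using this
    · intro hp
      exact Tri.flex_of_det_hess_eq_zero T (ofPoly_hesse_smooth ht) hv (by rw [h, hp]; simp)
  rw [hdet]
  rw [eval_hesse] at h0
  constructor
  · intro hp
    rw [hp, mul_zero, sub_zero] at h0
    have key : ∀ x y : k, (x ≠ 0 ∨ y ≠ 0) → x ^ 3 + y ^ 3 = 0 → x ≠ 0 ∧ (-(y / x)) ^ 3 = 1 := by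
      intro x y hxy h
      have hx : x ≠ 0 := by
        rintro rfl
        have : y = 0 := by simpa using h
        simp [this] at hxy
      refine ⟨hx, ?_⟩
      field_simp
      linear_combination -h
    rcases mul_eq_zero.1 hp with hp | h2
    · rcases mul_eq_zero.1 hp with h0' | h1
      · obtain ⟨hx, hγ⟩ := key (v 1) (v 2) (by
          by_contra! h; exact hv (by funext i; fin_cases i <;> simp [h0', h.1, h.2]))
          (by rw [h0'] at h0; linear_combination h0)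
        refine ⟨_, v 1, hγ, Or.inl ?_⟩
        funext i; fin_cases i <;> simp [h0']; field_simp
      · obtain ⟨hx, hγ⟩ := key (v 2) (v 0) (by
          by_contra! h; exact hv (by funext i; fin_cases i <;> simp [h1, h.1, h.2]))
          (by rw [h1] at h0; linear_combination h0)
        refine ⟨_, v 2, hγ, Or.inr (Or.inl ?_)⟩
        funext i; fin_cases i <;> simp [h1]; field_simp
    · obtain ⟨hx, hγ⟩ := key (v 0) (v 1) (by
        by_contra! h; exact hv (by funext i; fin_cases i <;> simp [h2, h.1, h.2]))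
        (by rw [h2] at h0; linear_combination h0)
      refine ⟨_, v 0, hγ, Or.inr (Or.inr ?_)⟩
      funext i; fin_cases i <;> simp [h2]; field_simp
  · rintro ⟨γ, c, -, rfl | rfl | rfl⟩ <;> simp

/-- Some symmetry of the Hesse cubic moves a given flex to `(0, 1, -1)`. -/
theorem exists_translation {t : k} (ht : t ^ 3 ≠ 1) {v : Fin 3 → k} (hv : v ≠ 0)
    (h0 : eval v (HesseCubic.form t) = 0) (hfl : (ofPoly (HesseCubic.form t)).Flex v) :
    ∃ (M : Matrix (Fin 3) (Fin 3) k) (d : k), IsUnit M.det ∧ d ≠ 0 ∧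
      (∀ x, eval (M.mulVec x) (HesseCubic.form t) = eval x (HesseCubic.form t)) ∧
      M.mulVec v = d • ![0, 1, -1] := by
  obtain ⟨γ, c, hγ, hv'⟩ := (hesse_flex_iff ht hv h0).1 hfl
  have hc : c ≠ 0 := by
    rintro rfl
    rcases hv' with rfl | rfl | rfl <;> simp at hv
  have hγ0 : γ ≠ 0 := by rintro rfl; simp at hγ
  refine match hv' with
    | Or.inl h => ⟨!![γ ^ 2, 0, 0; 0, γ, 0; 0, 0, 1], γ * c, ?_, mul_ne_zero hγ0 hc, ?_, ?_⟩
    | Or.inr (Or.inl h) => ⟨!![0, γ ^ 2, 0; 0, 0, γ; 1, 0, 0], γ * c, ?_, mul_ne_zero hγ0 hc, ?_, ?_⟩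
    | Or.inr (Or.inr h) => ⟨!![0, 0, γ ^ 2; γ, 0, 0; 0, 1, 0], γ * c, ?_, mul_ne_zero hγ0 hc, ?_, ?_⟩
  all_goals first
    | (rw [Matrix.det_fin_three]; simp [hγ0])
    | (intro x
       simp [eval_hesse, Matrix.mulVec, dotProduct, Fin.sum_univ_three]
       linear_combination (γ ^ 3 * x 0 ^ 3 + x 0 ^ 3 + x 1 ^ 3 - 3 * t * (x 0 * x 1 * x 2)) * hγ)
    | (intro x
       simp [eval_hesse, Matrix.mulVec, dotProduct, Fin.sum_univ_three]
       linear_combination (γ ^ 3 * x 1 ^ 3 + x 1 ^ 3 + x 2 ^ 3 - 3 * t * (x 0 * x 1 * x 2)) * hγ)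
    | (intro x
       simp [eval_hesse, Matrix.mulVec, dotProduct, Fin.sum_univ_three]
       linear_combination (γ ^ 3 * x 2 ^ 3 + x 2 ^ 3 + x 0 ^ 3 - 3 * t * (x 0 * x 1 * x 2)) * hγ)
    | (funext i; fin_cases i <;> simp [h, Matrix.mulVec, dotProduct, Fin.sum_univ_three] <;> ring)

end GrothLib.CubicForm
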