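import Groth.Agent.Lib.CubicForm.Eckardt
import Mathlib.LinearAlgebra.Matrix.ToLin
import Mathlib.LinearAlgebra.FreeModule.Finite.Matrix

/-!
# Involutions of a cubic surface, in matrix form
-/

namespace GrothLib.CubicForm

universe u

open MvPolynomial Module

variable {k : Type u} [Field k] [IsAlgClosed k] [CharZero k] {f : MvPolynomial (Fin 4) k}

omit [IsAlgClosed k] [CharZero k] in
theorem finrank_four : finrank k (Fin 4 → k) = 4 := Module.finrank_fin_fun k

omit [IsAlgClosed k] in
theorem isEckardt_iff (hf : f.IsHomogeneous 3) (e : Fin 4 → k) :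
    (ofPoly f).IsEckardt e ↔ e ≠ 0 ∧ ∃ U : Fin 3 → Submodule k (Fin 4 → k), Function.Injective U ∧
      ∀ i : Fin 3, Module.finrank k ↥(U i) = 2 ∧ e ∈ U i ∧ ∀ u ∈ U i, eval u f = 0 := by
  simp only [Tri.IsEckardt, ofPoly_line_iff hf]

/-- An involution with a hyperplane of fixed points which preserves a smooth cubic surface and
negates a point of it is the harmonic involution at that point. -/
theorem harmonic_of_matrix (hf : f.IsHomogeneous 3)
    (hsm : ∀ v : Fin 4 → k, v ≠ 0 → eval v f = 0 → ∃ i : Fin 4, eval v (pderiv i f) ≠ 0)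
    (A : Matrix (Fin 4) (Fin 4) k) (p : Fin 4 → k) (hp : p ≠ 0) (hfp : eval p f = 0)
    (hfix : Module.finrank k ↥(LinearMap.ker (Matrix.toLin' A - LinearMap.id)) = 3)
    (hAp : A.mulVec p = -p)
    (hAf : ∃ c : k, aeval (fun i : Fin 4 => ∑ j : Fin 4, C (A i j) * X j) f = C c * f) :
    ∃ φ, (ofPoly f).Harmonic p φ ∧ ∀ x, A.mulVec x = x - (2 * φ x) • p := by
  set T := ofPoly f
  have hT : T.Smooth := ofPoly_smooth hf hsm
  obtain ⟨c, hc⟩ := hAf
  have hpol := ofPoly_polar_of_subst hf A c ((linSubst_eq_iff A f c).1 hc)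
  set H := LinearMap.ker (Matrix.toLin' A - LinearMap.id)
  have memH : ∀ x, x ∈ H ↔ A.mulVec x = x := fun x => by simp [H, sub_eq_zero]
  have hpH : p ∉ H := by
    rw [memH, hAp]
    intro h
    exact hp (by linear_combination (norm := module) (-(1 : k) / 2) • h)
  obtain ⟨ψ, hψp, hψH⟩ := Submodule.exists_le_ker_of_notMem hpH
  set φ : (Fin 4 → k) →ₗ[k] k := (ψ p)⁻¹ • ψ
  have hφp : φ p = 1 := by simp [φ, hψp]
  have hker : H = LinearMap.ker φ := by
    refine Submodule.eq_of_le_of_finrank_le (fun x hx => by simp [φ, show ψ x = 0 from hψH hx]) ?_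
    have hs : Function.Surjective φ := fun r => ⟨r • p, by simp [hφp]⟩
    have := LinearMap.finrank_range_add_finrank_ker φ
    rw [LinearMap.range_eq_top.2 hs, finrank_top, finrank_self, finrank_four] at this
    omega
  have hA : ∀ x, A.mulVec x = x - (2 * φ x) • p := by
    intro x
    have hx : A.mulVec (x - φ x • p) = x - φ x • p :=
      (memH _).1 (by rw [hker]; simp [hφp])
    rw [Matrix.mulVec_sub, Matrix.mulVec_smul, hAp] at hx
    linear_combination (norm := module) hx
  have hppp : T p p p = 0 := (ofPoly_cube_eq_zero_iff hf p).2 hfp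
  have hc1 : c = 1 := by
    by_contra hc1
    refine T.no_plane finrank_four hT H hfix fun x hx y hy z hz => ?_
    have := hpol x y z
    rw [(memH x).1 hx, (memH y).1 hy, (memH z).1 hz] at this
    have : (1 - c) * T x y z = 0 := by linear_combination this
    simpa [sub_ne_zero.2 (Ne.symm hc1)] using this
  have hpxy : ∀ x ∈ H, ∀ y ∈ H, T p x y = 0 := by
    intro x hx y hy
    have := hpol p x y
    rw [(memH x).1 hx, (memH y).1 hy, hAp, T.neg₁, hc1, one_mul] at this
    linear_combination (-(1 : k) / 2) * this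
  refine ⟨φ, ⟨hφp, hppp, fun x y => ?_⟩, hA⟩
  have hm : ∀ z, z - φ z • p ∈ H := fun z => by rw [hker]; simp [hφp]
  have := hpxy _ (hm x) _ (hm y)
  simp only [T.sub₂, T.sub₃, T.smul₂, T.smul₃, hppp] at this
  rw [T.symm₂ p x p] at this
  linear_combination this

omit [IsAlgClosed k] [CharZero k] in
theorem mulVec_polar_of_harmonic {A : Matrix (Fin 4) (Fin 4) k} {p : Fin 4 → k}
    {φ : (Fin 4 → k) →ₗ[k] k} (hφ : (ofPoly f).Harmonic p φ)
    (hA : ∀ x, A.mulVec x = x - (2 * φ x) • p) (x y z : Fin 4 → k) :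
    ofPoly f (A.mulVec x) (A.mulVec y) (A.mulVec z) = ofPoly f x y z := by
  simp only [hA]
  exact hφ.refl_polar _ x y z

end GrothLib.CubicForm
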